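import Cfsg.Agent.StdRank2.OutField
import Cfsg.Agent.ZN.ChoiceBase
import Cfsg.Agent.Mrg.Omega.OM.FourF.K_m3
import Cfsg.Agent.Mrg.Omega.OM.NX_m3
import Cfsg.Agent.Mrg.Omega.OM.Swap.Pair_m3
import Cfsg.Agent.Omega.OM.Swap.Sit_m3
import Cfsg.Agent.FastGrp
import Cfsg.Agent.Prune
set_option linter.all false

section
prune_inst 0x7ff0fefb8dfdbfffffff7e7ffffddffffdfdfffffffffffbfff8efffdfff4b8efdc5abadffebdafd5ff662bcb0f87bd3fdffeb3fef6bdc7ffffd5ff45ffbff9fffffbf8971df8cbe1fbe0fff6bf07fce7f3fffffffffffffffffffffffffffbeffffffffffff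

-- part: Mrg/Omega/OM/SWQ/CostTwo
section
prune_inst 0xf00007200400000000000000000000002000000000000000200000000000000080400001000000001000000000000020014c00004000000000000000000000000000000000000000000000000000000000000000000000000000000000000000000000000
set_option linter.all false
open scoped Cfsg.Agent.FastGrp

-- merged: Cfsg.Agent.Omega.OM.SWQ.TwoAbs
section

/-!
# THEOREM SWQ (#21705, #22378 (c)), CASE II: the abstract part

`W` is elementary abelian with coordinates `c : W → F × F`, `Z` is the line `y = 0`, the 2-group `T` acts by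
`(x, y) ↦ (s x + l s y, s y)` (`s ∈ Aut(F)`, `l ∈ F`), `|F| ≠ 4`.

* `AB.cost` : the hypothesis `Cost` of THEOREM COUNT, bad elements = the elements of `Z` which are moved by `T`;
* `AB.h3` : `Z ≤ [W, O]` if `O` moves `Z`;
* `AB.h4` : an element which normalises `O` and `W` normalises `Z`.
-/

set_option autoImplicit false

namespace Cfsg.Agent.Omega.OM.SWQ

open Subgroup Cfsg Cfsg.Agent.ZN Cfsg.Agent.ZN.ChoiceBase
open Cfsg.Agent.StdRank2.OutField (unique_invol card_fix)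
open scoped Pointwise commutatorElement

universe u

variable {G : Type u} [Group G] {F : Type} [Field F]

/-- `t` acts on `W` as `(x, y) ↦ (s x + l s y, s y)`. -/
def Act (W : Subgroup G) (c : G → F × F) (t : G) (s : RingAut F) (l : F) : Prop :=
  ∀ w ∈ W, c (t * w * t⁻¹) = (s (c w).1 + l * s (c w).2, s (c w).2)

/-- The data. -/
structure AB (T W Z : Subgroup G) (c : G → F × F) : Prop where
  ab : ∀ x ∈ W, ∀ y ∈ W, x * y = y * x
  sq : ∀ x ∈ W, x * x = 1
  mul : ∀ x ∈ W, ∀ y ∈ W, c (x * y) = c x + c y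
  surj : ∀ p : F × F, ∃ w ∈ W, c w = p
  inj : ∀ w ∈ W, c w = 0 → w = 1
  memZ : ∀ w, w ∈ Z ↔ w ∈ W ∧ (c w).2 = 0
  TW : ∀ t ∈ T, ∀ w ∈ W, t * w * t⁻¹ ∈ W
  act : ∀ t ∈ T, ∃ (s : RingAut F) (l : F), Act W c t s l
  T2 : IsPGroup 2 T

namespace AB

variable {T W Z : Subgroup G} {c : G → F × F} (h : AB T W Z c)
include h

theorem one : c 1 = 0 := by
  have := h.mul 1 W.one_mem 1 W.one_mem
  rw [mul_one] at this
  exact left_eq_add.1 this

theorem inv_eq {w : G} (hw : w ∈ W) : w⁻¹ = w := inv_eq_of_mul_eq_one_left (h.sq w hw)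

theorem eq_of {v w : G} (hv : v ∈ W) (hw : w ∈ W) (e : c v = c w) : v = w := by
  have h1 : c (v * w⁻¹) = 0 := by
    rw [h.inv_eq hw, h.mul v hv w hw, e, ← h.mul w hw w hw, h.sq w hw, h.one]
  exact mul_inv_eq_one.1 (h.inj _ (mul_mem hv (inv_mem hw)) h1)

theorem ZW : Z ≤ W := fun z hz => ((h.memZ z).1 hz).1

theorem TW' {t w : G} (ht : t ∈ T) (hw : w ∈ W) : t⁻¹ * w * t ∈ W := by
  have := h.TW t⁻¹ (inv_mem ht) w hw
  rwa [inv_inv] at this

theorem act_mul {t t' : G} {s s' : RingAut F} {l l' : F} (ht' : t' ∈ T) (h1 : Act W c t s l)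
    (h2 : Act W c t' s' l') : Act W c (t * t') (s * s') (s l' + l) := by
  intro w hw
  have h3 := h.TW t' ht' w hw
  have h4 := h1 _ h3
  rw [h2 w hw] at h4
  have e1 : t * t' * w * (t * t')⁻¹ = t * (t' * w * t'⁻¹) * t⁻¹ := by group
  rw [e1, h4]
  ext
  · show s (s' (c w).1 + l' * s' (c w).2) + l * s (s' (c w).2) = s (s' (c w).1) + (s l' + l) * s (s' (c w).2)
    rw [map_add, map_mul]
    ring
  · rfl

omit h in
theorem act_one : Act W c (1 : G) (1 : RingAut F) 0 := by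
  intro w _
  have e1 : (1 : G) * w * 1⁻¹ = w := by group
  rw [e1]
  ext
  · show (c w).1 = (c w).1 + 0 * (c w).2
    ring
  · rfl

theorem act_inv {t : G} {s : RingAut F} {l : F} (ht : t ∈ T) (h1 : Act W c t s l) :
    Act W c t⁻¹ s⁻¹ (-(s⁻¹ l)) := by
  intro w hw
  have h2 := h1 _ (h.TW' ht hw)
  have e1 : t * (t⁻¹ * w * t) * t⁻¹ = w := by group
  rw [e1] at h2
  have hx := congrArg Prod.fst h2
  have hy := congrArg Prod.snd h2
  dsimp only at hx hy
  have hs : ∀ x : F, s⁻¹ (s x) = x := fun x => s.symm_apply_apply x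
  rw [inv_inv]
  ext
  · show (c (t⁻¹ * w * t)).1 = s⁻¹ (c w).1 + -(s⁻¹ l) * s⁻¹ (c w).2
    rw [hx, hy, map_add, map_mul, hs, hs]
    ring
  · show (c (t⁻¹ * w * t)).2 = s⁻¹ (c w).2
    rw [hy, hs]

theorem act_pow {t : G} {s : RingAut F} {l : F} (ht : t ∈ T) (h1 : Act W c t s l) (n : ℕ) :
    ∃ l', Act W c (t ^ n) (s ^ n) l' := by
  induction n with
  | zero => exact ⟨0, by rw [pow_zero, pow_zero]; exact act_one⟩
  | succ n ih =>
    obtain ⟨l', h2⟩ := ih
    exact ⟨_, by rw [pow_succ, pow_succ]; exact h.act_mul ht h2 h1⟩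

/-- uniqueness -/
theorem act_uniq {t : G} {s s' : RingAut F} {l l' : F} (h1 : Act W c t s l) (h2 : Act W c t s' l') :
    s = s' ∧ l = l' := by
  have hs : s = s' := by
    ext x
    obtain ⟨w, hw, e⟩ := h.surj (x, 0)
    have h3 := (h1 w hw).symm.trans (h2 w hw)
    rw [e] at h3
    have h4 := congrArg Prod.fst h3
    dsimp only at h4
    rwa [map_zero, map_zero, mul_zero, mul_zero, add_zero, add_zero] at h4
  refine ⟨hs, ?_⟩
  subst hs
  obtain ⟨w, hw, e⟩ := h.surj (0, 1)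
  have h3 := (h1 w hw).symm.trans (h2 w hw)
  rw [e] at h3
  have h4 := congrArg Prod.fst h3
  dsimp only at h4
  rwa [map_zero, map_one, zero_add, zero_add, mul_one, mul_one] at h4

/-- centralising `W` -/
theorem cent_iff {t : G} {s : RingAut F} {l : F} (ht : t ∈ T) (h1 : Act W c t s l) :
    t ∈ centralizer (W : Set G) ↔ s = 1 ∧ l = 0 := by
  constructor
  · intro h2
    refine h.act_uniq h1 (l' := 0) fun w hw => ?_
    have e1 : t * w * t⁻¹ = w := by
      rw [← mem_centralizer_iff.1 h2 w hw]; group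
    rw [e1]
    ext
    · show (c w).1 = (c w).1 + 0 * (c w).2
      ring
    · rfl
  · rintro ⟨rfl, rfl⟩
    refine mem_centralizer_iff.2 fun w hw => ?_
    have e1 : t * w * t⁻¹ = w := by
      apply h.eq_of (h.TW t ht w hw) hw
      rw [h1 w hw]
      ext
      · show (c w).1 + 0 * (c w).2 = (c w).1
        ring
      · rfl
    exact (mul_inv_eq_iff_eq_mul.1 e1).symm

/-- moving `Z` -/
theorem move_iff {t : G} {s : RingAut F} {l : F} (ht : t ∈ T) (h1 : Act W c t s l) :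
    (∀ z ∈ Z, t * z = z * t) ↔ s = 1 := by
  constructor
  · intro h2
    ext x
    obtain ⟨w, hw, e⟩ := h.surj (x, 0)
    have hz : w ∈ Z := (h.memZ w).2 ⟨hw, by rw [e]⟩
    have h3 := h1 w hw
    have e1 : t * w * t⁻¹ = w := by rw [h2 w hz]; group
    rw [e1, e] at h3
    have h4 := congrArg Prod.fst h3
    dsimp only at h4
    rw [map_zero, mul_zero, add_zero] at h4
    exact h4.symm
  · rintro rfl z hz
    obtain ⟨hzW, hz2⟩ := (h.memZ z).1 hz
    have e1 : t * z * t⁻¹ = z := by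
      apply h.eq_of (h.TW t ht z hzW) hzW
      rw [h1 z hzW]
      ext
      · show (c z).1 + l * (c z).2 = (c z).1
        rw [hz2, mul_zero, add_zero]
      · rfl
    exact mul_inv_eq_iff_eq_mul.1 e1

/-- an element of `O` which induces an involution on `F` -/
theorem exists_invol {O : Subgroup G} (hO : O ≤ T) (hmov : ∃ o ∈ O, ∃ z ∈ Z, o * z ≠ z * o) :
    ∃ o ∈ O, ∃ (s : RingAut F) (l : F), Act W c o s l ∧ s ≠ 1 ∧ s * s = 1 := by
  classical
  obtain ⟨o, ho, z, hz, hne⟩ := hmov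
  obtain ⟨s, l, hs⟩ := h.act o (hO ho)
  have hs1 : s ≠ 1 := fun e => hne ((h.move_iff (hO ho) hs).2 e z hz)
  obtain ⟨n, hn⟩ := h.T2 ⟨o, hO ho⟩
  have hn' : o ^ 2 ^ n = 1 := by simpa using congrArg Subtype.val hn
  have hsn : s ^ 2 ^ n = 1 := by
    obtain ⟨l', h1⟩ := h.act_pow (hO ho) hs (2 ^ n)
    rw [hn'] at h1
    exact (h.act_uniq h1 act_one).1
  have hex : ∃ n, s ^ 2 ^ n = 1 := ⟨n, hsn⟩
  set m := Nat.find hex with hm
  have hm1 : s ^ 2 ^ m = 1 := Nat.find_spec hex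
  have hm0 : m ≠ 0 := by
    intro h0
    rw [h0, pow_zero, pow_one] at hm1
    exact hs1 hm1
  obtain ⟨k, hk⟩ := Nat.exists_eq_succ_of_ne_zero hm0
  have hk1 : s ^ 2 ^ k ≠ 1 := Nat.find_min hex (by omega)
  obtain ⟨l', h1⟩ := h.act_pow (hO ho) hs (2 ^ k)
  refine ⟨o ^ 2 ^ k, pow_mem ho _, _, l', h1, hk1, ?_⟩
  rw [← pow_add, ← two_mul, ← pow_succ', ← Nat.succ_eq_add_one, ← hk]
  exact hm1

/-- the commutator with a root element -/
theorem act_comm {o t : G} (ho : o ∈ T) (ht : t ∈ T) {s : RingAut F} {l m : F} (h1 : Act W c o s m)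
    (h2 : Act W c t 1 l) : Act W c (o * t * o⁻¹ * t⁻¹) 1 (s l - l) := by
  have h3 := h.act_mul (inv_mem ht) (h.act_mul (inv_mem ho) (h.act_mul ht h1 h2) (h.act_inv ho h1)) (h.act_inv ht h2)
  have e1 : s * 1 * s⁻¹ * 1⁻¹ = (1 : RingAut F) := by group
  rw [e1] at h3
  have e2 : (s * 1 * s⁻¹) (-((1 : RingAut F)⁻¹ l)) + ((s * 1) (-(s⁻¹ m)) + (s l + m)) = s l - l := by
    have e3 : s * 1 * s⁻¹ = (1 : RingAut F) := by group
    rw [e3, mul_one]
    have e4 : s (-(s⁻¹ m)) = -m := by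
      rw [map_neg]
      congr 1
      exact s.apply_symm_apply m
    rw [e4]
    have e5 : (1 : RingAut F) (-((1 : RingAut F)⁻¹ l)) = -l := by
      rw [inv_one]; rfl
    rw [e5]
    ring
  rw [e2] at h3
  exact h3

/-- **(H3)** -/
theorem h3 {O : Subgroup G} (hO : O ≤ T) (hOT : ∀ t ∈ T, ∀ o ∈ O, t * o * t⁻¹ ∈ O)
    (full : ∀ l : F, ∃ t ∈ T, Act W c t 1 l) (hmov : ∃ o ∈ O, ∃ z ∈ Z, o * z ≠ z * o) : Z ≤ ⁅W, O⁆ := by
  obtain ⟨o, ho, s, m, hs, hs1, -⟩ := h.exists_invol hO hmov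
  obtain ⟨l, hl⟩ : ∃ l, s l ≠ l := by
    by_contra hcon
    push Not at hcon
    exact hs1 (RingEquiv.ext hcon)
  obtain ⟨t, ht, htl⟩ := full l
  have h1 := h.act_comm (hO ho) ht hs htl
  set d : G := o * t * o⁻¹ * t⁻¹ with hd
  have hdO : d ∈ O := by
    have e1 : d = o * (t * o⁻¹ * t⁻¹) := by rw [hd]; group
    rw [e1]
    exact mul_mem ho (hOT t ht _ (inv_mem ho))
  have hne : s l - l ≠ 0 := sub_ne_zero.2 hl
  intro z hz
  obtain ⟨hzW, hz2⟩ := (h.memZ z).1 hz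
  obtain ⟨w, hw, e⟩ := h.surj (0, (c z).1 / (s l - l))
  have h2 := h1 w hw
  rw [e] at h2
  have h3 : z = d * w * d⁻¹ * w⁻¹ := by
    apply h.eq_of hzW (mul_mem (h.TW d (hO hdO) w hw) (inv_mem hw))
    rw [h.inv_eq hw, h.mul _ (h.TW d (hO hdO) w hw) _ hw, h2, e]
    have h4 : ((1 : RingAut F) (0 : F) + (s l - l) * (1 : RingAut F) ((c z).1 / (s l - l)),
        (1 : RingAut F) ((c z).1 / (s l - l))) + (0, (c z).1 / (s l - l)) =
        ((c z).1, (c z).1 / (s l - l) + (c z).1 / (s l - l)) := by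
      ext
      · show (0 : F) + (s l - l) * ((c z).1 / (s l - l)) + 0 = (c z).1
        rw [zero_add, add_zero, mul_div_cancel₀ _ hne]
      · rfl
    rw [h4]
    have h5 : c w + c w = 0 := by
      rw [← h.mul w hw w hw, h.sq w hw, h.one]
    rw [e] at h5
    have h6 := congrArg Prod.snd h5
    ext
    · rfl
    · show (c z).2 = (c z).1 / (s l - l) + (c z).1 / (s l - l)
      rw [hz2]
      exact h6.symm
  rw [h3, ← commutatorElement_def, commutator_comm]
  exact commutator_mem_commutator hdO hw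

/-- **(H4)** -/
theorem h4 [Finite G] [Finite F] [CharP F 2] {O : Subgroup G} (hO : O ≤ T) (hOT : ∀ t ∈ T, ∀ o ∈ O, t * o * t⁻¹ ∈ O)
    (full : ∀ l : F, ∃ t ∈ T, Act W c t 1 l) (hmov : ∃ o ∈ O, ∃ z ∈ Z, o * z ≠ z * o) (h4 : Nat.card F ≠ 4)
    {f : G} (hfO : ∀ o ∈ O, f * o * f⁻¹ ∈ O) (hfW : f ∈ normalizer (W : Set G)) : cj f Z = Z := by
  by_contra hne
  obtain ⟨o, ho, s, m, hs, hs1, hs2⟩ := h.exists_invol hO hmov
  -- an element `w₁ = f z₁ f⁻¹` outside `Z`
  obtain ⟨z₁, hz₁, hw₁⟩ : ∃ z₁ ∈ Z, f * z₁ * f⁻¹ ∉ Z := by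
    by_contra hcon
    push Not at hcon
    apply hne
    apply Subgroup.eq_of_le_of_card_ge
    · rintro _ ⟨z, hz, rfl⟩
      exact hcon z hz
    · exact (card_cj f Z).ge
  have hfw : ∀ {w : G}, w ∈ W → f * w * f⁻¹ ∈ W := fun {w} hw => (mem_normalizer_iff.1 hfW w).1 hw
  have hw₁W : f * z₁ * f⁻¹ ∈ W := hfw (h.ZW hz₁)
  have hy₁ : (c (f * z₁ * f⁻¹)).2 ≠ 0 := fun e => hw₁ ((h.memZ _).2 ⟨hw₁W, e⟩)
  -- an element of `O` which centralises `w₁` and `Z` centralises `W`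
  have key : ∀ e ∈ O, e * (f * z₁ * f⁻¹) = (f * z₁ * f⁻¹) * e → ∀ {l : F}, Act W c e 1 l → l = 0 := by
    intro e he hec l hl
    have h1 := hl _ hw₁W
    have e1 : e * (f * z₁ * f⁻¹) * e⁻¹ = f * z₁ * f⁻¹ := mul_inv_eq_iff_eq_mul.2 hec
    rw [e1] at h1
    have h2 := congrArg Prod.fst h1
    have h3 : (c (f * z₁ * f⁻¹)).1 = (c (f * z₁ * f⁻¹)).1 + l * (c (f * z₁ * f⁻¹)).2 := h2
    have h5 := left_eq_add.1 h3
    exact (mul_eq_zero.1 h5).resolve_right hy₁
  -- conjugates of the elements `d ∈ O` with `s_d = 1`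
  have hcon : ∀ d ∈ O, ∀ l : F, Act W c d 1 l → (f * d * f⁻¹) * (f * z₁ * f⁻¹) = (f * z₁ * f⁻¹) * (f * d * f⁻¹) := by
    intro d hd l hl
    have h1 := (h.move_iff (hO hd) hl).2 rfl z₁ hz₁
    calc (f * d * f⁻¹) * (f * z₁ * f⁻¹) = f * (d * z₁) * f⁻¹ := by group
      _ = f * (z₁ * d) * f⁻¹ := by rw [h1]
      _ = _ := by group
  -- if `f d f⁻¹` centralises `W`, then so does `d`
  have hback : ∀ d ∈ O, f * d * f⁻¹ ∈ centralizer (W : Set G) → d ∈ centralizer (W : Set G) := by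
    intro d _ hd
    refine mem_centralizer_iff.2 fun w hw => ?_
    have h1 := mem_centralizer_iff.1 hd _ (hfw hw)
    have h2 := congrArg (fun t => f⁻¹ * t * f) h1
    have e1 : f⁻¹ * (f * w * f⁻¹ * (f * d * f⁻¹)) * f = w * d := by group
    have e2 : f⁻¹ * (f * d * f⁻¹ * (f * w * f⁻¹)) * f = d * w := by group
    rw [← e1, ← e2]
    exact h2
  have hforw : ∀ d, d ∈ centralizer (W : Set G) → f * d * f⁻¹ ∈ centralizer (W : Set G) := by
    intro d hd
    refine mem_centralizer_iff.2 fun w hw => ?_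
    have hw' : f⁻¹ * w * f ∈ W := by
      have := (mem_normalizer_iff.1 (inv_mem hfW) w).1 hw
      rwa [inv_inv] at this
    have h1 := mem_centralizer_iff.1 hd _ hw'
    have h2 := congrArg (fun t => f * t * f⁻¹) h1
    have e1 : f * (f⁻¹ * w * f * d) * f⁻¹ = w * (f * d * f⁻¹) := by group
    have e2 : f * (d * (f⁻¹ * w * f)) * f⁻¹ = f * d * f⁻¹ * w := by group
    rw [← e1, ← e2]
    exact h2
  -- the automorphism of `f d f⁻¹`: an involution if `l ≠ 0`
  have hinv : ∀ d ∈ O, ∀ l : F, Act W c d 1 l → l ≠ 0 → ∃ (r : RingAut F) (k : F), Act W c (f * d * f⁻¹) r k ∧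
      r ≠ 1 ∧ r * r = 1 := by
    intro d hd l hl hl0
    obtain ⟨r, k, hr⟩ := h.act _ (hO (hfO d hd))
    refine ⟨r, k, hr, ?_, ?_⟩
    · rintro rfl
      have h1 := key _ (hfO d hd) (hcon d hd l hl) hr
      subst h1
      have h2 := hback d hd ((h.cent_iff (hO (hfO d hd)) hr).2 ⟨rfl, rfl⟩)
      exact hl0 ((h.cent_iff (hO hd) hl).1 h2).2
    · have h1 : Act W c (d * d) (1 * 1) ((1 : RingAut F) l + l) := h.act_mul (hO hd) hl hl
      have h2 : d * d ∈ centralizer (W : Set G) := by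
        refine (h.cent_iff (mul_mem (hO hd) (hO hd)) h1).2 ⟨one_mul 1, ?_⟩
        exact CharTwo.add_self_eq_zero l
      have h3 := hforw _ h2
      have e1 : f * (d * d) * f⁻¹ = (f * d * f⁻¹) * (f * d * f⁻¹) := by group
      rw [e1] at h3
      have h4 := h.act_mul (hO (hfO d hd)) hr hr
      exact ((h.cent_iff (mul_mem (hO (hfO d hd)) (hO (hfO d hd))) h4).1 h3).1
  -- two elements
  have huniq : ∀ d ∈ O, ∀ l : F, Act W c d 1 l → l ≠ 0 → ∀ d' ∈ O, ∀ l' : F, Act W c d' 1 l' → l' ≠ 0 → l = l' := by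
    intro d hd l hl hl0 d' hd' l' hl' hl0'
    obtain ⟨r, k, hr, hr1, hr2⟩ := hinv d hd l hl hl0
    obtain ⟨r', k', hr', hr1', hr2'⟩ := hinv d' hd' l' hl' hl0'
    have hrr : r = r' := unique_invol hr2 hr2' hr1 hr1'
    subst hrr
    -- `d'' = d d'⁻¹`
    have hd2 : d * d'⁻¹ ∈ O := mul_mem hd (inv_mem hd')
    have a1 := h.act_mul (inv_mem (hO hd')) hl (h.act_inv (hO hd') hl')
    have a2 := h.act_mul (inv_mem (hO (hfO d' hd'))) hr (h.act_inv (hO (hfO d' hd')) hr')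
    have e1 : (f * d * f⁻¹) * (f * d' * f⁻¹)⁻¹ = f * (d * d'⁻¹) * f⁻¹ := by group
    rw [e1, mul_inv_cancel] at a2
    rw [one_mul, inv_one] at a1
    have h1 := key _ (hfO _ hd2) (hcon _ hd2 _ a1) a2
    rw [h1] at a2
    have h2 := hback _ hd2 ((h.cent_iff (hO (hfO _ hd2)) a2).2 ⟨rfl, rfl⟩)
    have h3 := ((h.cent_iff (hO hd2) a1).1 h2).2
    have h4 : -l' + l = 0 := h3
    rw [neg_add_eq_zero] at h4
    exact h4.symm
  -- the elements `[o, t]`
  have hdl : ∀ l : F, ∃ d ∈ O, Act W c d 1 (s l - l) := by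
    intro l
    obtain ⟨t, ht, htl⟩ := full l
    refine ⟨_, ?_, h.act_comm (hO ho) ht hs htl⟩
    have e1 : o * t * o⁻¹ * t⁻¹ = o * (t * o⁻¹ * t⁻¹) := by group
    rw [e1]
    exact mul_mem ho (hOT t ht _ (inv_mem ho))
  obtain ⟨l, hl⟩ : ∃ l, s l ≠ l := by
    by_contra hcon
    push Not at hcon
    exact hs1 (RingEquiv.ext hcon)
  -- an element of the fixed field outside `{0, 1}`
  obtain ⟨r, hr, hr0, hr1⟩ : ∃ r : F, s r = r ∧ r ≠ 0 ∧ r ≠ 1 := by
    by_contra hcon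
    push Not at hcon
    apply h4
    rw [← card_fix hs2 hs1]
    have : Nat.card {x : F // s x = x} = 2 := by
      rw [Nat.card_eq_two_iff]
      refine ⟨⟨0, map_zero s⟩, ⟨1, map_one s⟩, ?_, ?_⟩
      · intro e
        exact zero_ne_one (congrArg Subtype.val e)
      · ext ⟨x, hx⟩
        simp only [Set.mem_insert_iff, Set.mem_singleton_iff, Set.mem_univ, iff_true, Subtype.mk.injEq]
        by_cases hx0 : x = 0
        · exact Or.inl hx0
        · exact Or.inr (hcon x hx hx0)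
    rw [this]
  obtain ⟨d, hd, hda⟩ := hdl l
  obtain ⟨d', hd', hda'⟩ := hdl (r * l)
  have e1 : s (r * l) - r * l = r * (s l - l) := by rw [map_mul, hr]; ring
  rw [e1] at hda'
  have hne1 : s l - l ≠ 0 := sub_ne_zero.2 hl
  have h5 := huniq d hd _ hda hne1 d' hd' _ hda' (mul_ne_zero hr0 hne1)
  have h6 : (r - 1) * (s l - l) = 0 := by rw [sub_mul, ← h5, one_mul, sub_self]
  rcases mul_eq_zero.1 h6 with h7 | h7
  · exact hr1 (sub_eq_zero.1 h7)
  · exact hne1 h7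

theorem card_W [Finite F] : Nat.card W = Nat.card F * Nat.card F := by
  rw [← Nat.card_prod]
  refine Nat.card_congr (Equiv.ofBijective (fun w : W => c w) ⟨?_, ?_⟩)
  · intro v w e
    exact Subtype.ext (h.eq_of v.2 w.2 e)
  · intro p
    obtain ⟨w, hw, e⟩ := h.surj p
    exact ⟨⟨w, hw⟩, e⟩

/-- the fixed points of an element which induces an involution on `F` -/
theorem card_cent [Finite G] [Finite F] [CharP F 2] {e : G} {s : RingAut F} {l : F} (hs : Act W c e s l)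
    (hs1 : s ≠ 1) (hs2 : s * s = 1) : Nat.card ↥(W ⊓ centralizer ({e} : Set G)) ≤ Nat.card F := by
  classical
  rw [← card_fix hs2 hs1, ← Nat.card_prod]
  have hfix : ∀ w ∈ W ⊓ centralizer ({e} : Set G), s (c w).2 = (c w).2 ∧ s (c w).1 + l * (c w).2 = (c w).1 := by
    rintro w ⟨hw, hw'⟩
    have h1 := hs w hw
    have e1 : e * w * e⁻¹ = w := by
      have := mem_centralizer_singleton_iff.1 hw'
      rw [← this]; group
    rw [e1] at h1
    have h2 : (c w).2 = s (c w).2 := congrArg Prod.snd h1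
    have h3 : (c w).1 = s (c w).1 + l * s (c w).2 := congrArg Prod.fst h1
    refine ⟨h2.symm, ?_⟩
    rw [← h2] at h3
    exact h3.symm
  -- particular solutions
  set g : F → F := fun y => if hy : ∃ x, s x + l * y = x then Classical.choose hy else 0 with hg
  have hg' : ∀ w ∈ W ⊓ centralizer ({e} : Set G), s (g (c w).2) + l * (c w).2 = g (c w).2 := by
    intro w hw
    have hy : ∃ x, s x + l * (c w).2 = x := ⟨_, (hfix w hw).2⟩
    have : g (c w).2 = Classical.choose hy := by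
      rw [hg]
      exact dif_pos hy
    rw [this]
    exact Classical.choose_spec hy
  refine Nat.card_le_card_of_injective (fun w : ↥(W ⊓ centralizer ({e} : Set G)) =>
    ((⟨(c w).2, (hfix w w.2).1⟩, ⟨(c w).1 - g (c w).2, ?_⟩) : {x : F // s x = x} × {x : F // s x = x})) ?_
  · rw [map_sub]
    have h1 := (hfix w w.2).2
    have h2 := hg' w w.2
    have h3 : s (c w).1 = (c w).1 - l * (c w).2 := by rw [eq_sub_iff_add_eq]; exact h1
    have h4 : s (g (c w).2) = g (c w).2 - l * (c w).2 := by rw [eq_sub_iff_add_eq]; exact h2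
    rw [h3, h4]
    ring
  · intro v w hvw
    have h1 : (c v).2 = (c w).2 := congrArg (fun p => (p.1 : F)) hvw
    have h2 : (c v).1 - g (c v).2 = (c w).1 - g (c w).2 := congrArg (fun p => (p.2 : F)) hvw
    apply Subtype.ext
    apply h.eq_of v.2.1 w.2.1
    ext
    · rw [h1] at h2
      exact sub_left_injective h2
    · exact h1

/-- **`Cost`**, written out. -/
theorem cost [Finite G] [Finite F] [CharP F 2] (hmov : ∃ t ∈ T, ∃ z ∈ Z, t * z ≠ z * t) (h4 : Nat.card F ≠ 4) :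
    ∀ E ≤ T, (∀ a ∈ E, ∀ u ∈ W, a * (a * u * a⁻¹) * a⁻¹ = u) →
    (∀ a ∈ E, ∀ b ∈ E, ∀ u ∈ W, a * (b * u * b⁻¹) * a⁻¹ = b * (a * u * a⁻¹) * b⁻¹) →
    (∀ a ∈ E, ∀ b ∈ E, ∀ u ∈ W, b * (u * (a * u * a⁻¹)) = u * (a * u * a⁻¹) * b) →
    (∀ w ∈ closure {y | ∃ x ∈ W, ∃ a ∈ E, y = x * (a * x * a⁻¹)}, ¬ (w ∈ Z ∧ ∃ t ∈ T, t * w ≠ w * t)) →
    E ≤ centralizer (W : Set G) ∨
      2 * ((centralizer (W : Set G)).relIndex E) ^ 3 ≤ (centralizer (E : Set G)).relIndex W := by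
  classical
  intro E hE hsq _ _ hbad
  -- elements which centralise `Z`
  have stepA : ∀ e ∈ E, ∀ l : F, Act W c e 1 l → l = 0 := by
    intro e he l hl
    by_contra hl0
    obtain ⟨t, ht, z, hz, hne⟩ := hmov
    obtain ⟨hzW, hz2⟩ := (h.memZ z).1 hz
    obtain ⟨x, hx, ex⟩ := h.surj (0, (c z).1 / l)
    refine hbad z (subset_closure ⟨x, hx, e, he, ?_⟩) ⟨hz, t, ht, hne⟩
    have h1 := hl x hx
    apply h.eq_of hzW (mul_mem hx (h.TW e (hE he) x hx))
    rw [h.mul _ hx _ (h.TW e (hE he) x hx), h1, ex]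
    ext
    · show (c z).1 = 0 + (0 + l * ((c z).1 / l))
      rw [zero_add, zero_add, mul_div_cancel₀ _ hl0]
    · show (c z).2 = (c z).1 / l + (c z).1 / l
      rw [hz2]
      exact (CharTwo.add_self_eq_zero _).symm
  have stepB : ∀ e ∈ E, ∀ (s : RingAut F) (l : F), Act W c e s l → s * s = 1 := by
    intro e he s l hs
    ext y
    obtain ⟨w, hw, ew⟩ := h.surj (0, y)
    have h1 := hs _ (h.TW e (hE he) w hw)
    rw [hs w hw, hsq e he w hw, ew] at h1
    exact (congrArg Prod.snd h1).symm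
  by_cases hall : ∀ e ∈ E, ∃ l, Act W c e 1 l
  · left
    intro e he
    obtain ⟨l, hl⟩ := hall e he
    exact (h.cent_iff (hE he) hl).2 ⟨rfl, stepA e he l hl⟩
  · right
    push Not at hall
    obtain ⟨e₀, he₀, hne₀⟩ := hall
    obtain ⟨s₀, l₀, hs₀⟩ := h.act e₀ (hE he₀)
    have hs1 : s₀ ≠ 1 := fun e => hne₀ l₀ (e ▸ hs₀)
    have hs2 := stepB e₀ he₀ s₀ l₀ hs₀
    have hnc : ∀ {e : G}, e ∈ E → ∀ {s : RingAut F} {l : F}, Act W c e s l → (e ∈ centralizer (W : Set G) ↔ s = 1) := by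
      intro e he s l hs
      rw [h.cent_iff (hE he) hs]
      refine ⟨fun h1 => h1.1, fun h1 => ⟨h1, ?_⟩⟩
      subst h1
      exact stepA e he l hs
    have hindex : (centralizer (W : Set G)).relIndex E = 2 := by
      rw [relIndex_eq_two_iff]
      refine ⟨e₀, he₀, fun b hb => ?_⟩
      obtain ⟨s, l, hs⟩ := h.act b (hE hb)
      have hm := h.act_mul (hE he₀) hs hs₀
      by_cases hb1 : s = 1
      · refine Or.inr ⟨(hnc hb hs).2 hb1, fun h1 => ?_⟩
        have h2 := (hnc (mul_mem hb he₀) hm).1 h1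
        rw [hb1, one_mul] at h2
        exact hs1 h2
      · refine Or.inl ⟨?_, fun h1 => hb1 ((hnc hb hs).1 h1)⟩
        rw [hnc (mul_mem hb he₀) hm, unique_invol (stepB b hb s l hs) hs2 hb1 hs1, hs2]
    rw [hindex]
    -- `|F| ≥ 16`
    have hF : 16 ≤ Nat.card F := by
      have h1 := card_fix hs2 hs1
      obtain ⟨n, hn⟩ : ∃ n : ℕ, Nat.card F = 2 ^ n := by
        have : Fintype F := Fintype.ofFinite F
        obtain ⟨n, -, hn⟩ := FiniteField.card F 2
        exact ⟨n, by rw [Nat.card_eq_fintype_card, hn]⟩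
      obtain ⟨m, -, hm⟩ := (Nat.dvd_prime_pow Nat.prime_two).1 (Dvd.intro _ (h1.trans hn))
      rw [hm] at h1
      have h5 : 1 < Nat.card F := Finite.one_lt_card
      rcases m with _ | _ | m
      · rw [← h1] at h5
        norm_num at h5
      · exact absurd h1.symm (by norm_num; exact h4)
      · rw [← h1]
        have h6 : 4 ≤ 2 ^ (m + 1 + 1) := by
          rw [pow_succ, pow_succ]
          have := Nat.one_le_two_pow (n := m)
          omega
        exact Nat.mul_le_mul h6 h6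
    have h1 := h.card_cent hs₀ hs1 hs2
    have h2 : Nat.card ↥(W ⊓ centralizer (E : Set G)) ≤ Nat.card F := by
      refine le_trans (Subgroup.card_le_of_le (inf_le_inf_left _ (centralizer_le ?_))) h1
      exact Set.singleton_subset_iff.2 he₀
    have h3 : Nat.card ↥(W ⊓ centralizer (E : Set G)) * (centralizer (E : Set G)).relIndex W = Nat.card W := by
      have h4 := relIndex_mul_relIndex ⊥ (centralizer (E : Set G) ⊓ W) W bot_le inf_le_right
      rw [relIndex_bot_left, relIndex_bot_left, inf_relIndex_right] at h4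
      rw [inf_comm]
      exact h4
    rw [h.card_W] at h3
    have h5 : Nat.card F ≤ (centralizer (E : Set G)).relIndex W := by
      have hp : 0 < Nat.card F := Nat.card_pos
      have h6 : Nat.card F * Nat.card F ≤ Nat.card F * (centralizer (E : Set G)).relIndex W := by
        rw [← h3]
        exact Nat.mul_le_mul_right _ h2
      exact Nat.le_of_mul_le_mul_left h6 hp
    calc 2 * 2 ^ 3 = 16 := by norm_num
      _ ≤ Nat.card F := hF
      _ ≤ _ := h5

end AB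

end Cfsg.Agent.Omega.OM.SWQ

end

-- merged: Cfsg.Agent.Mrg.Omega.OM.SWQ.CostTwo
section

/-!
# THEOREM SWQ (#21705), CASE II: the hypothesis `Cost` of THEOREM COUNT
-/

set_option autoImplicit false

namespace Cfsg.Agent.Omega.OM.SWQ

open Subgroup Cfsg

/-- **`Cost` in CASE II.** -/
theorem AB.cost_two {G : Type*} [Group G] [Finite G] {F : Type} [Field F] [Finite F] [CharP F 2] {T W Z : Subgroup G}
    {c : G → F × F} (h : AB T W Z c) (hmov : ∃ t ∈ T, ∃ z ∈ Z, t * z ≠ z * t) (h4 : Nat.card F ≠ 4) :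
    Swap.Fam.Cost T W (fun w => w ∈ Z ∧ ∃ t ∈ T, t * w ≠ w * t) := h.cost hmov h4

end Cfsg.Agent.Omega.OM.SWQ

end
end

-- part: Mrg/Omega/OM/Lev/Low/Half
section
set_option linter.all false
open scoped Cfsg.Agent.FastGrp


/-!
# TEXT LL v2 (helper584 #20624), (4), `q = 2`: the case `|π_l(V)| ≤ 2`

`V = C_X(Q)`, and the product of two elements of `V` which are nontrivial at `l` is trivial at `l`, for all `l`.

* `Hf.eq` : an element of `V` supported on the orbit of `l` and nontrivial is unique;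
* `Hf.moves` : a root element `b` with `z ∈ [V, b]` nontrivial at `l` moves the orbit of `l`;
* `Hf.eq_z` : then `z = y y^b`, `y` supported on the orbit of `l`; `Hf.supp` : its support is the union of the two orbits;
* `Hf.disj` : the supports of the `z i` are disjoint; `Hf.fixes` : `y` is fixed by `A j`, `j ≠ i`;
* `mem_ZJ_of` : an element of `C i` fixed by all `A j` is in `Z_J`; `mem_of_C` : `Z_J ∩ C i` is generated by the `Z j`, `j ≠ i`.
-/

set_option autoImplicit false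
set_option linter.unusedSectionVars false

namespace Cfsg.Agent.Omega.OM.Lev.Low

open Subgroup Cfsg Cfsg.Agent.ZN Cfsg.Agent.ZN.ChoiceBase
open Cfsg.Agent.Omega.OM.Uni Cfsg.Agent.Omega.OM.Lev.Uni
open Cfsg.Agent.Omega.SQ1.Bau (mem_sup_comm card_sup_comm elem_comm elem_sq)
open Cfsg.Agent.Omega.OM.Lev.Low.YB

universe u

variable {G : Type u} [Group G] {Λ : Type*}

/-- `|π_l(V)| ≤ 2` for all `l`. -/
structure Hf (T X Q V : Subgroup G) (N c : Λ → Subgroup G) : Prop where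
  yb : YB T X N c
  qv : QV T X Q V
  half : ∀ l, ∀ v ∈ V, ∀ v' ∈ V, v ∉ N l → v' ∉ N l → v * v' ∈ N l

namespace Hf

variable {T X Q V : Subgroup G} {N c : Λ → Subgroup G} (h : Hf T X Q V N c)
include h

variable [Finite Λ]

theorem eq {l : Λ} {a a' : G} (ha : a ∈ V) (ha' : a' ∈ V) (hc : a ∈ Cp c (Orb Q N c l)) (hc' : a' ∈ Cp c (Orb Q N c l))
    (hn : a ∉ N l) (hn' : a' ∉ N l) : a = a' := by
  have h1 := h.half l a ha a' ha' hn hn'
  have h2 := h.yb.eq_one (p := Orb Q N c l) (mul_mem hc hc') fun m hm =>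
    (h.qv.cen_iff hm (mul_mem ha ha')).2 h1
  have h3 := eq_inv_of_mul_eq_one_left h2
  rwa [h.yb.inv_eq (h.qv.VX ha')] at h3

/-- conjugates of the elements supported on the orbit of `l` -/
theorem cj_mem {b : G} (hb : b ∈ T) {l m : Λ} (hm : Mv N c b l m) {y : G} (hy : y ∈ Cp c (Orb Q N c l)) :
    b * y * b⁻¹ ∈ Cp c (Orb Q N c m) :=
  h.yb.Cp_conj hb (fun _ hl' _ hm' => orb_mv (h.qv.TQ hb) hm hl' hm') hy

theorem orb_eq {l m : Λ} (hm : m ∈ Orb Q N c l) : Orb Q N c l = Orb Q N c m := by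
  ext x
  exact ⟨fun hx => orb_trans (orb_symm hm) hx, fun hx => orb_trans hm hx⟩

/-- **a root element which does not move the orbit of `l`** fixes the elements of `V` supported there -/
theorem fix_of {b : G} (hb : b ∈ T) {l m : Λ} (hm : Mv N c b l m) (hml : m ∈ Orb Q N c l) {y : G} (hy : y ∈ V)
    (hyp : y ∈ Cp c (Orb Q N c l)) : b * y * b⁻¹ = y := by
  have hby := QV.memV h.yb h.qv hb hy
  have hbyp := h.cj_mem hb hm hyp
  rw [← h.orb_eq hml] at hbyp
  by_cases hyl : y ∈ N l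
  · have h1 : y = 1 := h.yb.eq_one hyp fun m' hm' => (h.qv.cen_iff hm' hy).2 hyl
    rw [h1]; group
  · have h2 : b * y * b⁻¹ ∉ N l := fun h3 => hyl (hm.cen.1 ((h.qv.cen_iff hml hby).2 h3))
    exact h.eq hby hy hbyp hyp h2 hyl

variable {Z : Subgroup G}

/-- **a root element moves the orbits in the support of `z`** -/
theorem moves {b : G} (r : Rt T V Z b) {l m : Λ} (hm : Mv N c b l m) {z : G} (hz : z ∈ Z) (hzl : z ∉ N l) :
    m ∉ Orb Q N c l := by
  intro hml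
  obtain ⟨a, haV, ha, h1⟩ := h.yb.exists_part h.qv r hm hml hz
  refine hzl (h1 ?_)
  rw [h.fix_of r.bT hm hml haV ha, h.yb.mul_self (h.qv.VX haV)]
  exact one_mem _

/-- **`z = y y^b`** -/
theorem eq_z {b : G} (r : Rt T V Z b) (hZ : ∀ z ∈ Z, ∀ z' ∈ Z, z ≠ 1 → z' ≠ 1 → z = z') {l m : Λ} (hm : Mv N c b l m)
    {z : G} (hz : z ∈ Z) (hz1 : z ≠ 1) (hml : m ∉ Orb Q N c l) {y : G} (hy : y ∈ V) (hyp : y ∈ Cp c (Orb Q N c l))
    (hyl : y ∉ N l) : z = y * (b * y * b⁻¹) := by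
  have h1 : b * y * b⁻¹ ∈ N l := h.yb.Cp_cen (fun e => hml (orb_symm e)) (h.cj_mem r.bT hm hyp)
  refine hZ _ hz _ (r.com y hy) hz1 fun e => hyl ?_
  have h2 := mul_mem (e ▸ one_mem _ : y * (b * y * b⁻¹) ∈ N l) (inv_mem h1)
  rwa [mul_inv_cancel_right] at h2

/-- the support of `z = y y^b` -/
theorem supp {b : G} (hb : b ∈ T) {l m : Λ} (hm : Mv N c b l m) (hml : m ∉ Orb Q N c l) {y : G} (hy : y ∈ V)
    (hyp : y ∈ Cp c (Orb Q N c l)) (hyl : y ∉ N l) {l' : Λ} :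
    y * (b * y * b⁻¹) ∉ N l' ↔ l' ∈ Orb Q N c l ∨ l' ∈ Orb Q N c m := by
  have hby := QV.memV h.yb h.qv hb hy
  have hbyp := h.cj_mem hb hm hyp
  have hbyl : b * y * b⁻¹ ∉ N m := fun h3 => hyl (hm.cen.1 h3)
  constructor
  · intro h1
    by_contra hcon
    push Not at hcon
    exact h1 (mul_mem (h.yb.Cp_cen hcon.1 hyp) (h.yb.Cp_cen hcon.2 hbyp))
  · rintro (h1 | h1) h2
    · have h3 : l' ∉ Orb Q N c m := fun h3 => hml (orb_trans h1 (orb_symm h3))
      have h4 := mul_mem h2 (inv_mem (h.yb.Cp_cen h3 hbyp))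
      rw [mul_inv_cancel_right] at h4
      exact hyl ((h.qv.cen_iff h1 hy).1 h4)
    · have h3 : l' ∉ Orb Q N c l := fun h3 => hml (orb_trans h3 (orb_symm h1))
      have h4 := mul_mem (inv_mem (h.yb.Cp_cen h3 hyp)) h2
      rw [inv_mul_cancel_left] at h4
      exact hbyl ((h.qv.cen_iff h1 hby).1 h4)

end Hf

/-! ### The frame of `P` -/

section fr

variable {ι : Type*} {B Q V X ZJ : Subgroup G} {L W Z C A : ι → Subgroup G} {q : ℕ}

/-- an element of `C i` which is fixed by all `A j` is in `Z_J` -/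
theorem mem_ZJ_of (h : FrL B Q V X ZJ L W Z C A q) {x : G} (hx : x ∈ V) (hf : ∀ j, ∀ a ∈ A j, a * x = x * a) :
    x ∈ ZJ := by
  refine (h.mem_ZJ x).2 ⟨hx, fun b hb => ?_⟩
  have hbx : b * x * b⁻¹ ∈ V := by
    by_cases hι : Nonempty ι
    · obtain ⟨i⟩ := hι
      exact h.LV i b ((h.blk i).BL hb) x hx
    · have h1 : x = 1 := h.C0 x hx fun i => absurd ⟨i⟩ hι
      rw [h1]
      have e : b * 1 * b⁻¹ = 1 := by group
      rw [e]; exact one_mem _
  have h1 : b * x * b⁻¹ * x⁻¹ = 1 := by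
    refine h.C0 _ (mul_mem hbx (inv_mem hx)) fun j => ?_
    obtain ⟨w, hw, c, hc, rfl⟩ := h.WC j x hx
    -- an element of `A j` which moves `W j`
    have hane := h.Ane j
    push Not at hane
    obtain ⟨a, ha, v, hv, hne⟩ := hane
    have h2 : a * w = w * a := by
      have h3 := hf j a ha
      have h4 := h.AC j a ha c hc
      have h5 : a * w * c = w * a * c := by
        calc a * w * c = a * (w * c) := by group
          _ = w * (c * a) := by rw [h3]; group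
          _ = w * (a * c) := by rw [h4]
          _ = _ := by group
      exact mul_right_cancel h5
    have hwZ : w ∈ Z j := (h.blk j).mem_Z (h.AB j ha) (fun h6 => hne (h6 v hv)) hw h2
    have h7 := (h.blk j).cZ b hb w hwZ
    have h8 := h.BC j b hb c hc
    have h9 : b * c * b⁻¹ * c⁻¹ ∈ C j := mul_mem h8 (inv_mem hc)
    have e1 : w * (b * c * b⁻¹ * c⁻¹) = b * c * b⁻¹ * c⁻¹ * w := h.Vc (h.WV j hw) (h.CV j h9)
    have e2 : b * (w * c) * b⁻¹ * (w * c)⁻¹ = b * c * b⁻¹ * c⁻¹ := by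
      calc b * (w * c) * b⁻¹ * (w * c)⁻¹ = b * w * c * b⁻¹ * c⁻¹ * w⁻¹ := by group
        _ = w * b * c * b⁻¹ * c⁻¹ * w⁻¹ := by rw [h7]
        _ = w * (b * c * b⁻¹ * c⁻¹) * w⁻¹ := by group
        _ = _ := by rw [e1]; group
    rw [e2]
    exact h9
  exact mul_inv_eq_iff_eq_mul.1 (mul_inv_eq_one.1 h1)

/-- `Z_J ∩ C i` is generated by the `Z j`, `j ≠ i` -/
theorem mem_of_C (h : FrL B Q V X ZJ L W Z C A q) [Finite ι] {i : ι} {H : Subgroup G} (hH : ∀ j, j ≠ i → Z j ≤ H)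
    {x : G} (hx : x ∈ ZJ) (hc : x ∈ C i) : x ∈ H := by
  set H' : Subgroup G := ⨆ (j : ι) (_ : j ≠ i), Z j with hH'
  have h1 : H' ≤ C i := iSup₂_le fun j hj => ((h.blk j).ZV).trans (h.WjC i j hj.symm)
  have h2 : ZJ ≤ H' ⊔ Z i := zj_le h fun j => by
    by_cases e : j = i
    · rw [e]; exact le_sup_right
    · exact (le_iSup₂_of_le j e le_rfl : Z j ≤ H').trans le_sup_left
  obtain ⟨a, ha, z, hz, rfl⟩ := mem_sup_comm (fun a ha b hb => h.Vc (h.CV i (h1 ha)) (h.ZV i hb)) (h2 hx)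
  have h3 : z ∈ C i := by
    have := mul_mem (inv_mem (h1 ha)) hc
    rwa [inv_mul_cancel_left] at this
  have h4 : z ∈ W i ⊓ C i := mem_inf.2 ⟨(h.blk i).ZV hz, h3⟩
  rw [h.dir i, mem_bot] at h4
  rw [h4, mul_one]
  exact (iSup₂_le hH : H' ≤ H) ha

end fr

/-! ### The supports of the `z i` -/

section both

variable {ι : Type*} {B Q V X ZJ T Y : Subgroup G} {L W Z C A : ι → Subgroup G} {N c : Λ → Subgroup G} [Finite Λ]
  [Finite G]

/-- **the supports of the `z i` are disjoint** -/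
theorem Hf.disj (k : Hf T Y Q V N c) (h : FrL B Q V X ZJ L W Z C A 2) (hBT : B ≤ T) {i j : ι} (hij : i ≠ j)
    {z z' : G} (hz : z ∈ Z i) (hz' : z' ∈ Z j) {l : Λ} (hzl : z ∉ N l) (hzl' : z' ∉ N l) : False := by
  have hZ : ∀ i, ∀ z ∈ Z i, ∀ z' ∈ Z i, z ≠ 1 → z' ≠ 1 → z = z' := fun i z hz z' hz' h1 h2 =>
    UniPlus.eq_of_card_two (h.cardZ i) hz hz' h1 h2
  have hane := h.Ane i
  push Not at hane
  obtain ⟨b, hb, v, hv, hne⟩ := hane
  have hane' := h.Ane j
  push Not at hane'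
  obtain ⟨b', hb', v', hv', hne'⟩ := hane'
  have r := rt h hBT hb fun h1 => hne (h1 v hv)
  have r' := rt h hBT hb' fun h1 => hne' (h1 v' hv')
  obtain ⟨m, hm⟩ := k.yb.perm b r.bT l
  obtain ⟨m', hm'⟩ := k.yb.perm b' r'.bT l
  have hml := k.moves r hm hz hzl
  have hml' := k.moves r' hm' hz' hzl'
  obtain ⟨y, hy, hyp, hyl⟩ := k.yb.exists_single k.qv l
  have hz1 : z ≠ 1 := fun e => hzl (e ▸ one_mem _)
  have hz1' : z' ≠ 1 := fun e => hzl' (e ▸ one_mem _)
  have e1 := k.eq_z r (hZ i) hm hz hz1 hml hy hyp hyl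
  have e2 := k.eq_z r' (hZ j) hm' hz' hz1' hml' hy hyp hyl
  -- `b'` centralises `z`
  have hzC : z ∈ C j := h.WjC j i hij.symm ((h.blk i).ZV hz)
  have h3 : b' * z * b'⁻¹ = z := by rw [h.AC j b' hb' z hzC]; group
  have h4 : z ∉ N m' := fun h5 => hzl (hm'.cen.1 (by rwa [h3]))
  rw [e1] at h4
  have h5 := ((k.supp r.bT hm hml hy hyp hyl).1 h4).resolve_left hml'
  have hby := QV.memV k.yb k.qv r.bT hy
  have hby' := QV.memV k.yb k.qv r'.bT hy
  have h6 := k.cj_mem r'.bT hm' hyp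
  rw [← k.orb_eq h5] at h6
  have h7 : b * y * b⁻¹ = b' * y * b'⁻¹ := by
    refine k.eq hby hby' (k.cj_mem r.bT hm hyp) h6 (fun h8 => hyl (hm.cen.1 h8)) fun h8 => hyl (hm'.cen.1 ?_)
    exact (k.qv.cen_iff h5 hby').2 h8
  have h8 : z = z' := by rw [e1, e2, h7]
  have h9 : z ∈ W j ⊓ C j := mem_inf.2 ⟨(h.blk j).ZV (h8 ▸ hz'), hzC⟩
  rw [h.dir j, mem_bot] at h9
  exact hz1 h9

/-- **`y` is fixed by `A j`, `j ≠ i`** -/
theorem Hf.fixes (k : Hf T Y Q V N c) (h : FrL B Q V X ZJ L W Z C A 2) (hBT : B ≤ T) {i j : ι} (hij : i ≠ j)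
    {z : G} (hz : z ∈ Z i) {l : Λ} (hzl : z ∉ N l) {y : G} (hy : y ∈ V) (hyp : y ∈ Cp c (Orb Q N c l)) {a : G}
    (ha : a ∈ A j) : a * y = y * a := by
  by_cases hne : ∀ v ∈ W j, a * v = v * a
  · obtain ⟨w, hw, c', hc', rfl⟩ := h.WC j y hy
    have c1 : Commute a w := hne w hw
    have c2 : Commute a c' := h.AC j a ha c' hc'
    exact (c1.mul_right c2).eq
  have r := rt h hBT ha hne
  obtain ⟨m, hm⟩ := k.yb.perm a r.bT l
  by_cases hml : m ∈ Orb Q N c l
  · exact mul_inv_eq_iff_eq_mul.1 (k.fix_of r.bT hm hml hy hyp)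
  by_cases hyl : y ∈ N l
  · have h1 : y = 1 := k.yb.eq_one hyp fun m' hm' => (k.qv.cen_iff hm' hy).2 hyl
    rw [h1, mul_one, one_mul]
  exfalso
  refine k.disj h hBT hij hz (r.com y hy) hzl ?_
  exact (k.supp r.bT hm hml hy hyp hyl).2 (Or.inl (self_mem Q l))

/-- **the decomposition of `y`** -/
theorem Hf.exists_dec (k : Hf T Y Q V N c) (h : FrL B Q V X ZJ L W Z C A 2) [Finite ι] (hBT : B ≤ T) {i : ι}
    {z : G} (hz : z ∈ Z i) {l : Λ} (hzl : z ∉ N l) {y : G} (hy : y ∈ V) (hyp : y ∈ Cp c (Orb Q N c l)) :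
    ∃ v ∈ W i, ∃ y' ∈ ZJ, y' ∈ C i ∧ y = v * y' ∧ ∀ l', z ∉ N l' → y' ∈ N l' := by
  obtain ⟨v, hv, y', hy', rfl⟩ := h.WC i y hy
  have hZJ : y' ∈ ZJ := by
    refine mem_ZJ_of h (h.CV i hy') fun j a ha => ?_
    by_cases e : i = j
    · subst e
      exact h.AC i a ha y' hy'
    · have h1 := k.fixes h hBT e hz hzl hy hyp ha
      have h2 := h.AC j a ha v (h.WjC j i (Ne.symm e) hv)
      have h3 : v * (a * y') = v * (y' * a) := by
        calc v * (a * y') = (v * a) * y' := by group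
          _ = (a * v) * y' := by rw [h2]
          _ = a * (v * y') := by group
          _ = v * y' * a := h1
          _ = _ := by group
      exact mul_left_cancel h3
  refine ⟨v, hv, y', hZJ, hy', rfl, fun l' hl' => ?_⟩
  refine mem_of_C h (fun j hj w hw => ?_) hZJ hy'
  by_contra hw'
  exact k.disj h hBT (Ne.symm hj) hz hw hl' hw'

end both

end Cfsg.Agent.Omega.OM.Lev.Low
end

-- part: Mrg/Omega/OM/Swap/Perm
section
set_option linter.all false
open scoped Cfsg.Agent.FastGrp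


/-!
# THEOREM SW (#18741), STEP 0: `N_G(B)` permutes the `W i`, `Z i` (`q = 2`); supports of the elements of `Z_J`
-/

set_option autoImplicit false

namespace Cfsg.Agent.Omega.OM.Swap

open Subgroup Cfsg Cfsg.Agent.ZN.ChoiceBase Cfsg.Agent.ZN.ChoiceSit
open Cfsg.Agent.ZN (jj zj bau zc zl o2)
open Cfsg.Agent.Omega.OM.Uni (FB Fr)
open Cfsg.Agent.Omega.OM.UniPlus (NB)

universe u

variable {G : Type u} [Group G] [Finite G]

theorem cj_mul_eq {g h : G} {X Y U : Subgroup G} (h1 : cj h X = Y) (h2 : cj g Y = U) : cj (g * h) X = U := by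
  rw [← cj_cj, h1, h2]

theorem cj_inv_eq {g : G} {X Y : Subgroup G} (h1 : cj g X = Y) : cj g⁻¹ Y = X := by
  rw [← h1, cj_inv_cj]

section line

variable {ι : Type} [Finite ι] {S : Sylow 2 G} {P : Subgroup G} {L W Z C A : ι → Subgroup G}

/-- `N_G(B)` permutes the triples `(W i, Z i, Z_J ∩ C i)`. -/
theorem perm (h : Line S P L W Z C A 2) {g : G} (hg : g ∈ normalizer (bau (S : Subgroup G) : Set G)) (i : ι) :
    ∃ j, cj g (Z i) = Z j ∧ cj g (W i) = W j ∧
      ∀ z ∈ zj (S : Subgroup G), (g * z * g⁻¹ ∈ C j ↔ z ∈ C i) := by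
  have h' : FB (bau (S : Subgroup G)) (cj g (L i)) (cj g (W i)) (cj g (Z i)) 2 := by
    have := (h.fr.blk i).conj g
    rwa [cj_eq_of_mem_normalizer hg] at this
  obtain ⟨-, j, hZ, -, h1 | ⟨-, -, ⟨w', hw', w, hw, hne⟩, -⟩⟩ := h.uniPlus h'
  · obtain ⟨-, hC, h2⟩ := h1
    refine ⟨j, hZ, (h2 rfl).1, fun z hz => ?_⟩
    have hz' : g * z * g⁻¹ ∈ zj (S : Subgroup G) := by
      have h3 := cj_eq_of_mem_normalizer (Dich.norm_zj _ hg)
      rw [← h3]
      exact ⟨z, hz, rfl⟩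
    rw [hC _ hz', UniPlus.mem_C_iff h.fr hz]
    constructor
    · intro h3 l hl
      have h4 := h3 (g * l * g⁻¹) ⟨l, hl, rfl⟩
      have h5 := congrArg (fun t => g⁻¹ * t * g) h4
      simpa [mul_assoc] using h5
    · intro h3 l hl
      have h4 := h3 _ (mem_cj.1 hl)
      have h5 := congrArg (fun t => g * t * g⁻¹) h4
      simpa [mul_assoc] using h5
  · exfalso
    apply hne
    refine h.fr.Vc ?_ (h.fr.WV j hw)
    rw [← (h.norm hg).1]
    exact cj_mono g (h.fr.WV i) hw'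

theorem Z_ne (h : Line S P L W Z C A 2) (i : ι) : ∃ z ∈ Z i, z ≠ 1 := by
  have h1 : 1 < Nat.card (Z i) := by rw [h.fr.cardZ i]; norm_num
  have : Nontrivial (Z i) := Finite.one_lt_card_iff_nontrivial.1 h1
  obtain ⟨z, hz⟩ := exists_ne (1 : Z i)
  exact ⟨z, z.2, fun h => hz (Subtype.ext h)⟩

theorem Z_W (h : Line S P L W Z C A 2) (i : ι) : Z i ≤ W i := (h.fr.blk i).ZV

theorem not_mem_C (h : Line S P L W Z C A 2) {i : ι} {z : G} (hz : z ∈ Z i) (h1 : z ≠ 1) : z ∉ C i := by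
  intro hc
  have h2 : z ∈ W i ⊓ C i := mem_inf.2 ⟨Z_W h i hz, hc⟩
  rw [h.fr.dir i, mem_bot] at h2
  exact h1 h2

theorem Z_C (h : Line S P L W Z C A 2) {i j : ι} (hij : i ≠ j) : Z j ≤ C i := (Z_W h j).trans (h.fr.WjC i j hij)

/-- `Z` is injective. -/
theorem Z_inj (h : Line S P L W Z C A 2) {i j : ι} (e : Z i = Z j) : i = j := by
  by_contra hne
  obtain ⟨z, hz, hz1⟩ := Z_ne h i
  exact not_mem_C h hz hz1 (Z_C h hne (e ▸ hz))

theorem Z_eq (h : Line S P L W Z C A 2) {i : ι} {x y : G} (hx : x ∈ Z i) (hy : y ∈ Z i) (hx1 : x ≠ 1)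
    (hy1 : y ≠ 1) : x = y := UniPlus.eq_of_card_two (h.fr.cardZ i) hx hy hx1 hy1

/-- If `g` normalises `Z i` it centralises it. -/
theorem cent_of_cj (h : Line S P L W Z C A 2) {i : ι} {g : G} (e : cj g (Z i) = Z i) {z : G} (hz : z ∈ Z i) :
    g * z = z * g := by
  by_cases h1 : z = 1
  · rw [h1]; simp
  have h2 : g * z * g⁻¹ ∈ Z i := by rw [← e]; exact ⟨z, hz, rfl⟩
  have h3 := Z_eq h h2 hz (fun h3 => h1 (by simpa using h3)) h1
  exact mul_inv_eq_iff_eq_mul.1 h3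

/-- If `g` moves `Z i` to `Z j` it moves the generator to the generator. -/
theorem conj_gen (h : Line S P L W Z C A 2) {i j : ι} {g : G} (e : cj g (Z i) = Z j) {z w : G} (hz : z ∈ Z i)
    (h1 : z ≠ 1) (hw : w ∈ Z j) (h2 : w ≠ 1) : g * z * g⁻¹ = w :=
  Z_eq h (by rw [← e]; exact ⟨z, hz, rfl⟩) hw (fun h3 => h1 (by simpa using h3)) h2

/-- An element of `Z_J` is determined by its support. -/
theorem eq_of_supp (h : Line S P L W Z C A 2) {x y : G} (hx : x ∈ zj (S : Subgroup G))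
    (hy : y ∈ zj (S : Subgroup G)) (hs : ∀ i, x ∈ C i ↔ y ∈ C i) : x = y := by
  have hxV := h.fr.ZJV hx
  have hyV := h.fr.ZJV hy
  have h1 : x * y⁻¹ = 1 := by
    refine h.fr.C0 _ (mul_mem hxV (inv_mem hyV)) fun i => ?_
    by_cases hxi : x ∈ C i
    · exact mul_mem hxi (inv_mem ((hs i).1 hxi))
    have hyi : y ∉ C i := fun hc => hxi ((hs i).2 hc)
    obtain ⟨w, hw, c, hc, -, e⟩ := h.fr.split_ZJ i hx
    obtain ⟨w', hw', c', hc', -, e'⟩ := h.fr.split_ZJ i hy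
    have hw1 : w ≠ 1 := by
      rintro rfl
      exact hxi (by rw [e, one_mul]; exact hc)
    have hw1' : w' ≠ 1 := by
      rintro rfl
      exact hyi (by rw [e', one_mul]; exact hc')
    have h2 := Z_eq h hw hw' hw1 hw1'
    have h3 : w * c = c * w := h.fr.Vc (h.fr.ZV i hw) (h.fr.CV i hc)
    have h4 : w * c' = c' * w := h.fr.Vc (h.fr.ZV i hw) (h.fr.CV i hc')
    have e1 : x * y⁻¹ = c * c'⁻¹ := by
      rw [e, e', ← h2, h3, h4]; group
    rw [e1]
    exact mul_mem hc (inv_mem hc')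
  exact mul_inv_eq_one.1 h1

/-- Every subset of the index set is a support. -/
theorem exists_supp (h : Line S P L W Z C A 2) (s : Set ι) :
    ∃ x ∈ zj (S : Subgroup G), ∀ i, (x ∈ C i ↔ i ∉ s) := by
  classical
  have : Fintype ι := Fintype.ofFinite ι
  suffices H : ∀ t : Finset ι, ∃ x ∈ zj (S : Subgroup G), ∀ i, (x ∈ C i ↔ i ∉ t) by
    obtain ⟨x, hx, hs⟩ := H s.toFinset
    exact ⟨x, hx, fun i => by rw [hs i, Set.mem_toFinset]⟩
  intro t
  induction t using Finset.induction_on with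
  | empty => exact ⟨1, one_mem _, fun i => by simp [one_mem]⟩
  | insert j t hj ih =>
    obtain ⟨x, hx, hs⟩ := ih
    obtain ⟨z, hz, hz1⟩ := Z_ne h j
    refine ⟨x * z, mul_mem hx (h.fr.Z_le j hz), fun i => ?_⟩
    by_cases hij : i = j
    · subst hij
      have h1 : x ∈ C i := (hs i).2 hj
      constructor
      · intro h2
        exact absurd ((Subgroup.mul_mem_cancel_left _ h1).1 h2) (not_mem_C h hz hz1)
      · intro h2
        exact absurd (Finset.mem_insert_self i t) h2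
    · have h1 : z ∈ C i := Z_C h hij hz
      rw [Subgroup.mul_mem_cancel_right _ h1, hs i, Finset.mem_insert, not_or]
      exact ⟨fun h2 => ⟨hij, h2⟩, fun h2 => h2.2⟩

/-- The support of a conjugate under `N_G(B)`. -/
theorem supp_cj (h : Line S P L W Z C A 2) {g : G} (hg : g ∈ normalizer (bau (S : Subgroup G) : Set G)) {i j : ι}
    (e : cj g (Z i) = Z j) {z : G} (hz : z ∈ zj (S : Subgroup G)) : g * z * g⁻¹ ∈ C j ↔ z ∈ C i := by
  obtain ⟨k, h1, -, h2⟩ := perm h hg i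
  have h3 : j = k := Z_inj h (e.symm.trans h1)
  rw [h3]
  exact h2 z hz

theorem W_cj (h : Line S P L W Z C A 2) {g : G} (hg : g ∈ normalizer (bau (S : Subgroup G) : Set G)) {i j : ι}
    (e : cj g (Z i) = Z j) : cj g (W i) = W j := by
  obtain ⟨k, h1, h2, -⟩ := perm h hg i
  have h3 : j = k := Z_inj h (e.symm.trans h1)
  rw [h3]
  exact h2

theorem zj_cj_mem {g : G} (hg : g ∈ normalizer (bau (S : Subgroup G) : Set G)) {z : G}
    (hz : z ∈ zj (S : Subgroup G)) : g * z * g⁻¹ ∈ zj (S : Subgroup G) := by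
  have h3 := cj_eq_of_mem_normalizer (Dich.norm_zj _ hg)
  rw [← h3]
  exact ⟨z, hz, rfl⟩

/-- `g ∈ N_G(B)` centralises `z ∈ Z_J` if it stabilises its support. -/
theorem comm_of_supp (h : Line S P L W Z C A 2) {g : G} (hg : g ∈ normalizer (bau (S : Subgroup G) : Set G)) {z : G}
    (hz : z ∈ zj (S : Subgroup G)) (hs : ∀ i j, cj g (Z i) = Z j → (z ∈ C i ↔ z ∈ C j)) : g * z = z * g := by
  have h1 : g * z * g⁻¹ = z := by
    refine eq_of_supp h (zj_cj_mem hg hz) hz fun j => ?_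
    obtain ⟨i, hi, -, -⟩ := perm h (inv_mem hg) j
    have e : cj g (Z i) = Z j := by
      have := cj_inv_eq hi
      rwa [inv_inv] at this
    rw [supp_cj h hg e hz]
    exact hs i j e
  exact mul_inv_eq_iff_eq_mul.1 h1

end line

end Cfsg.Agent.Omega.OM.Swap
end

-- part: Mrg/Omega/OM/Swap/Plug
section
prune_inst 0xc010422000000000001800002000000000000000000000007100020002461023a545200140402a00191024600002802000440009001000002000820040000000040260c20300100407000940f803180c00000000000000000000000000041000000000000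
set_option linter.all false
open scoped Cfsg.Agent.FastGrp


/-!
# THEOREM SW (#18741), STEP 0: the situation `Swap.Sit` from the frame `Line S P L W Z C A 2`

`M ≥ K0, N_G(B)`. If some subgroup `H ≥ B` of characteristic 2 is not contained in `M`, then there is a pair `(T, F)`
with `|Phi(T)|` maximal and one `O₂(F)`-orbit of indices for which `Swap.Sit` holds.
-/

set_option autoImplicit false

namespace Cfsg.Agent.Omega.OM.Swap

open Subgroup Cfsg Cfsg.Agent.ZN.ChoiceBase Cfsg.Agent.ZN.ChoiceSit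
open Cfsg.Agent.ZN (jj zj bau zc zl o2)
open Cfsg.Agent.Omega.OM.Dich (K0)
open Cfsg.Agent.Omega.OM.BlkGen (FBlk)

universe u

variable {G : Type u} [Group G] [Finite G]

/-- The module facts (helper323, `ModFacts.lean`). -/
structure MF {ι : Type} (S : Subgroup G) (L W Z : ι → Subgroup G) : Prop where
  act : ∀ X ∈ AA S, ∀ a ∈ X, ∀ i, ∀ x ∈ W i, ∀ z ∈ Z i, z ≠ 1 → a * x * a⁻¹ = x ∨ a * x * a⁻¹ = x * z
  hat : ∀ X ∈ AA S, ∀ i, (∃ a ∈ X, ∃ x ∈ W i, a * x ≠ x * a) →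
    ∃ a ∈ X, (∃ x ∈ W i, a * x ≠ x * a) ∧ ∀ j, j ≠ i → ∀ x ∈ W j, a * x = x * a
  conj : ∀ r : Set ι, ∀ x ∈ (⨆ i ∈ r, W i), ∃ m ∈ (⨆ i ∈ r, L i), m * x * m⁻¹ ∈ zj S

/-- the indices fixed by `T` -/
def Phi {ι : Type} (Z : ι → Subgroup G) (T : Subgroup G) : Set ι := {i | ∀ t ∈ T, cj t (Z i) = Z i}

section line

variable {ι : Type} [Finite ι] {S : Sylow 2 G} {P : Subgroup G} {L W Z C A : ι → Subgroup G}

/-- A pair with `|Phi(T)|` maximal; `C_G(Z₀ z_j) ≤ M` for `j ∉ Phi(T)`. -/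
theorem exists_max (h : Line S P L W Z C A 2) (hFF : FFThm.Stmt.{u}) (hA : FFBr.AStmt.{u}) {M H : Subgroup G}
    (hK : K0 (S : Subgroup G) (FBlk (S : Subgroup G)) ≤ M) (hN : normalizer (bau (S : Subgroup G) : Set G) ≤ M)
    (hB : bau (S : Subgroup G) ≤ H) (hc : H ⊓ centralizer (o2 H : Set G) ≤ o2 H) (hM : ¬ H ≤ M) :
    ∃ T F : Subgroup G, Pair S P M T F ∧ ∀ j, j ∉ Phi Z T →
      centralizer (((⨆ i ∈ Phi Z T, Z i) ⊔ Z j : Subgroup G) : Set G) ≤ M := by
  classical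
  have hS2 : IsPGroup 2 (zj (S : Subgroup G)) := S.isPGroup'.to_le ((zj_le_bau _).trans (bau_le _))
  -- choose
  let s : Set ℕ := {n | ∃ T F : Subgroup G, Pair S P M T F ∧ (Phi Z T).ncard = n}
  have hs1 : s.Nonempty := by
    obtain ⟨T, F, hp, -⟩ := exists_pair h hFF hA hK hN hB hc hM
    exact ⟨_, T, F, hp, rfl⟩
  have hs2 : s.Finite := by
    refine (Set.finite_Iic (Nat.card ι)).subset ?_
    rintro n ⟨T, F, -, rfl⟩
    rw [Set.mem_Iic, ← Set.ncard_univ]
    exact Set.ncard_le_ncard (Set.subset_univ _)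
  obtain ⟨n, hn⟩ := hs2.exists_maximal hs1
  obtain ⟨T, F, hp, hcard⟩ := hn.prop
  refine ⟨T, F, hp, fun j hj => ?_⟩
  by_contra hcon
  set X : Subgroup G := (⨆ i ∈ Phi Z T, Z i) ⊔ Z j with hX
  have hXJ : X ≤ zj (S : Subgroup G) :=
    sup_le (iSup_le fun i => iSup_le fun _ => h.fr.Z_le i) (h.fr.Z_le j)
  have hX1 : X ≠ ⊥ := by
    intro e
    obtain ⟨z, hz, hz1⟩ := Z_ne h j
    have h1 : z ∈ X := mem_sup_right hz
    rw [e, mem_bot] at h1
    exact hz1 h1
  have hBX : bau (S : Subgroup G) ≤ centralizer (X : Set G) :=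
    (Dich.bau_le_cent _).trans (centralizer_le (by exact_mod_cast hXJ))
  obtain ⟨T', F', hp', hle⟩ := exists_pair h hFF hA hK hN hBX
    (char2_cent h.hyp.ctx.char2 (hS2.to_le hXJ) hX1) hcon
  have hfix : ∀ i, Z i ≤ X → i ∈ Phi Z T' := by
    intro i hi t ht
    have h1 := hle (hp'.syl.1 ht)
    refine cj_eq_of_mem_normalizer (centralizer_le_normalizer _ ?_)
    exact centralizer_le (by exact_mod_cast hi) h1
  have hsub : insert j (Phi Z T) ⊆ Phi Z T' := by
    rintro i (rfl | hi)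
    · exact hfix _ le_sup_right
    · exact hfix _ (le_sup_of_le_left (le_iSup₂ (f := fun i (_ : i ∈ Phi Z T) => Z i) i hi))
  have h2 : n + 1 ≤ (Phi Z T').ncard := by
    rw [← hcard, ← Set.ncard_insert_of_notMem hj (Set.toFinite _)]
    exact Set.ncard_le_ncard hsub (Set.toFinite _)
  have h3 : (Phi Z T').ncard ≤ n := hn.le_of_ge ⟨T', F', hp', rfl⟩ (by show n ≤ (Phi Z T').ncard; omega)
  omega

/-- `V` commutes with its conjugates under `F` if `V ≤ O₂(F)`, `B ≤ T`. -/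
theorem comm_of_pair (h : Line S P L W Z C A 2) {M T F : Subgroup G} (hp : Pair S P M T F) {f : G} (hf : f ∈ F)
    {x y : G} (hx : x ∈ zl (S : Subgroup G) P) (hy : y ∈ zl (S : Subgroup G) P) :
    x * (f * y * f⁻¹) = f * y * f⁻¹ * x := by
  have hV := hp.VO
  have hTn := two_norm h hp.syl.2.1 hp.BT
  have hO : o2 F ≤ T := o2_le_syl hp.syl
  have hcO : cj f (o2 F) = o2 F := cj_eq_of_mem_normalizer (le_normalizer_o2 F hf)
  have h1 : cj f (zl (S : Subgroup G) P) ≤ normalizer (zl (S : Subgroup G) P : Set G) := by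
    have := cj_mono f hV
    rw [hcO] at this
    exact (this.trans hO).trans hTn
  have h2 : zl (S : Subgroup G) P ≤ normalizer ((cj f (zl (S : Subgroup G) P) : Subgroup G) : Set G) := by
    have h3 := cj_mono f ((hO.trans hTn : o2 F ≤ normalizer (zl (S : Subgroup G) P : Set G)))
    rw [hcO, cj_normalizer] at h3
    exact hV.trans h3
  by_contra hne
  refine h.hyp.noFF ⟨P, P, f, h.hyp.star, h.hyp.star, h2, h1, fun e => hne ?_⟩
  have h4 := commutator_eq_bot_iff_le_centralizer.1 e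
  exact (mem_centralizer_iff.1 (h4 hx) (f * y * f⁻¹) ⟨y, hy, rfl⟩).symm

theorem mm_two (S : Sylow 2 G) {T : Subgroup G} (hT : IsPGroup 2 T) (hB : bau (S : Subgroup G) ≤ T) :
    mm T = mm (S : Subgroup G) := by
  rw [← mm_bau T, LemmaK.Main.bau_eq S hT hB, mm_bau]

theorem AA_two (S : Sylow 2 G) {T : Subgroup G} (hT : IsPGroup 2 T) (hB : bau (S : Subgroup G) ≤ T)
    {X : Subgroup G} (hX : X ∈ AA T) : X ∈ AA (S : Subgroup G) := by
  obtain ⟨h1, h2, h3⟩ := mem_AA_iff.1 hX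
  have h4 : X ≤ (S : Subgroup G) := by
    have := le_jj hX
    rw [LemmaK.Main.jj_eq S hT hB] at this
    exact this.trans (jj_le _)
  rw [mem_AA_iff]
  refine ⟨h1, h4, ?_⟩
  rw [← mm_two S hT hB]
  exact h3

/-- **STEP 0.** -/
theorem exists_sit (h : Line S P L W Z C A 2) (hmf : MF (S : Subgroup G) L W Z) (hFF : FFThm.Stmt.{u})
    (hA : FFBr.AStmt.{u}) {M H : Subgroup G}
    (hK : K0 (S : Subgroup G) (FBlk (S : Subgroup G)) ≤ M) (hN : normalizer (bau (S : Subgroup G) : Set G) ≤ M)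
    (hB : bau (S : Subgroup G) ≤ H) (hc : H ⊓ centralizer (o2 H : Set G) ≤ o2 H) (hM : ¬ H ≤ M) :
    ∃ (T F F₀ : Subgroup G) (κ : Type) (V : κ → Subgroup G) (z : κ → G), Sit F T F₀ V z := by
  classical
  obtain ⟨T, F, hp, hcen⟩ := exists_max h hFF hA hK hN hB hc hM
  have hD : centralizer (zj (S : Subgroup G) : Set G) ≤ M := Dich.cent_le_K0.trans hK
  have hSM : (S : Subgroup G) ≤ M := (Line.S_le S).trans hN
  have hLM : ∀ i, L i ≤ M := fun i => (Dich.blk_le_K0 (h.fblk i)).trans hK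
  have hTN : T ≤ normalizer (bau (S : Subgroup G) : Set G) := Dich.two_le S hp.syl.2.1 hp.BT
  have hTM : T ≤ M := hTN.trans hN
  have hO : o2 F ≤ T := o2_le_syl hp.syl
  have hON : o2 F ≤ normalizer (bau (S : Subgroup G) : Set G) := hO.trans hTN
  have hTF : T ≤ F := hp.syl.1
  choose z hz hz1 using Z_ne h
  -- an index moved by `O₂(F)`
  obtain ⟨i₀, o₀, ho₀, hmv⟩ : ∃ i, ∃ o ∈ o2 F, cj o (Z i) ≠ Z i := by
    by_contra hcon
    push Not at hcon
    apply hp.nM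
    have h1 : zj (S : Subgroup G) ≤ centralizer (F : Set G) := by
      intro x hx
      refine hp.fix ⟨hx, mem_centralizer_iff.2 fun o ho => ?_⟩
      refine comm_of_supp h (hON ho) hx fun i j e => ?_
      rw [hcon i o ho] at e
      rw [Z_inj h e]
    exact (le_centralizer_iff.1 h1).trans hD
  -- its orbit
  set r : Set ι := {j | ∃ o ∈ o2 F, cj o (Z i₀) = Z j} with hr
  have hrO : ∀ o ∈ o2 F, ∀ i j, cj o (Z i) = Z j → (i ∈ r ↔ j ∈ r) := by
    intro o ho i j e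
    constructor
    · rintro ⟨o', ho', e'⟩
      exact ⟨o * o', mul_mem ho ho', cj_mul_eq e' e⟩
    · rintro ⟨o', ho', e'⟩
      exact ⟨o⁻¹ * o', mul_mem (inv_mem ho) ho', cj_mul_eq e' (cj_inv_eq e)⟩
  have hi₀ : i₀ ∈ r := ⟨1, one_mem _, cj_one _⟩
  obtain ⟨j₀, hj₀, -⟩ := perm h (hON ho₀) i₀
  have hj₀r : j₀ ∈ r := ⟨o₀, ho₀, hj₀⟩
  have hne₀ : i₀ ≠ j₀ := by
    rintro rfl
    exact hmv hj₀
  -- elements of `Z_J` with support `r` are centralised by `F`
  have hsuppF : ∀ x ∈ zj (S : Subgroup G), (∀ i, x ∈ C i ↔ i ∉ r) → ∀ f ∈ F, f * x = x * f := by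
    intro x hx hxs f hf
    refine mem_centralizer_iff.1 (hp.fix ⟨hx, mem_centralizer_iff.2 fun o ho => ?_⟩) f hf
    refine comm_of_supp h (hON ho) hx fun i j e => ?_
    rw [hxs i, hxs j, hrO o ho i j e]
  obtain ⟨xr, hxr, hxrs⟩ := exists_supp h r
  -- `T` stabilises `r`
  have hrT : ∀ t ∈ T, ∀ i j, cj t (Z i) = Z j → i ∈ r → j ∈ r := by
    intro t ht i j e hi
    by_contra hj
    have h1 := (supp_cj h (hTN ht) e hxr).1
    have h2 := hsuppF xr hxr hxrs t (hTF ht)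
    have h3 : t * xr * t⁻¹ = xr := by rw [h2]; group
    rw [h3] at h1
    exact (hxrs i).1 (h1 ((hxrs j).2 hj)) hi
  -- `r` and `Phi(T)` are disjoint
  have hrPhi : ∀ j ∈ r, j ∉ Phi Z T := by
    rintro j ⟨o, ho, e⟩ hj
    apply hmv
    have h1 := hj (o * o₀ * o⁻¹) (hO (mul_mem (mul_mem ho ho₀) (inv_mem ho)))
    rw [← e, cj_cj] at h1
    have h2 : cj o⁻¹ (cj (o * o₀ * o⁻¹ * o) (Z i₀)) = cj o⁻¹ (cj o (Z i₀)) := by rw [h1]
    rw [cj_cj, cj_inv_cj] at h2
    have e2 : o⁻¹ * (o * o₀ * o⁻¹ * o) = o₀ := by group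
    rwa [e2] at h2
  -- the group `Z₀`
  set Z₀ : Subgroup G := ⨆ i ∈ Phi Z T, Z i with hZ₀
  have hZ₀J : Z₀ ≤ zj (S : Subgroup G) := iSup_le fun i => iSup_le fun _ => h.fr.Z_le i
  have hFZ₀ : F ≤ centralizer (Z₀ : Set G) := by
    rw [le_centralizer_iff]
    refine iSup_le fun i => iSup_le fun hi x hx => ?_
    refine hp.fix ⟨h.fr.Z_le i hx, mem_centralizer_iff.2 fun o ho => ?_⟩
    exact cent_of_cj h (hi o (hO ho)) hx
  have hBZ₀ : bau (S : Subgroup G) ≤ centralizer (Z₀ : Set G) :=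
    (Dich.bau_le_cent _).trans (centralizer_le (by exact_mod_cast hZ₀J))
  have hLZ₀ : ∀ j ∈ r, L j ≤ centralizer (Z₀ : Set G) := by
    intro j hj
    rw [le_centralizer_iff]
    refine iSup_le fun i => iSup_le fun hi x hx => ?_
    rw [mem_centralizer_iff]
    intro l hl
    have hij : j ≠ i := by
      rintro rfl
      exact hrPhi _ hj hi
    exact h.fr.LC j l hl x (h.fr.Z_le i hx) (Z_C h hij hx)
  -- (TI)
  have hti : ∀ i ∈ r, ∀ x ∈ W i, x ≠ 1 → ∀ f ∈ F, x ∈ cj f (⨆ j ∈ r, W j) → f ∈ M := by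
    intro i hi x hx hx1 f hf hxf
    obtain ⟨l, hl, hxl⟩ := UniPlus.cover_two (UniPlus.nb h.fr i) hx
    rw [mem_cj] at hxl hxf
    -- `C_G(Z₀ x) ≤ M`
    have hcx : ∀ u, u ∈ centralizer (Z₀ : Set G) → u * x = x * u → u ∈ M := by
      intro u hu hux
      have h1 : l⁻¹ * u * l ∈ M := by
        refine hcen i (hrPhi i hi) ?_
        rw [mem_centralizer_iff]
        intro y hy
        have h2 : ((⨆ i ∈ Phi Z T, Z i) ⊔ Z i : Subgroup G) ≤ centralizer ({l⁻¹ * u * l} : Set G) := by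
          refine sup_le ?_ fun y hy => ?_
          · have h3 : l⁻¹ * u * l ∈ centralizer (Z₀ : Set G) :=
              mul_mem (mul_mem (inv_mem (hLZ₀ i hi hl)) hu) (hLZ₀ i hi hl)
            intro y hy
            rw [mem_centralizer_singleton_iff]
            exact mem_centralizer_iff.1 h3 y hy
          · rw [mem_centralizer_singleton_iff]
            by_cases hy1 : y = 1
            · rw [hy1]; simp
            have h3 : l⁻¹ * x * l ≠ 1 := fun h4 => hx1 (by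
              have h5 := congrArg (fun t => l * t * l⁻¹) h4
              simpa [mul_assoc] using h5)
            have h4 := Z_eq h hy hxl hy1 h3
            rw [h4]
            have h5 := congrArg (fun t => l⁻¹ * t * l) hux
            simpa [mul_assoc] using h5.symm
        exact mem_centralizer_singleton_iff.1 (h2 hy)
      have h2 := mul_mem (mul_mem (hLM i hl) h1) (inv_mem (hLM i hl))
      have e : l * (l⁻¹ * u * l) * l⁻¹ = u := by group
      rwa [e] at h2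
    obtain ⟨m, hm, hmx⟩ := hmf.conj r _ hxf
    have hmM : m ∈ M := (iSup₂_le fun i (_ : i ∈ r) => hLM i : (⨆ i ∈ r, L i) ≤ M) hm
    have hmZ : m ∈ centralizer (Z₀ : Set G) :=
      (iSup₂_le fun i (hi : i ∈ r) => hLZ₀ i hi : (⨆ i ∈ r, L i) ≤ centralizer (Z₀ : Set G)) hm
    have hg : f * m⁻¹ ∈ M := by
      refine mem_of_cj_bau_le S hSM hN ?_
      rintro _ ⟨b, hb, rfl⟩
      refine hcx _ ?_ ?_
      · have hgZ : f * m⁻¹ ∈ centralizer (Z₀ : Set G) := mul_mem (hFZ₀ hf) (inv_mem hmZ)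
        exact mul_mem (mul_mem hgZ (hBZ₀ hb)) (inv_mem hgZ)
      · have h1 := (mem_bau.1 hb).2 _ hmx
        change (f * m⁻¹) * b * (f * m⁻¹)⁻¹ * x = x * ((f * m⁻¹) * b * (f * m⁻¹)⁻¹)
        have h2 := congrArg (fun t => (f * m⁻¹) * t * (f * m⁻¹)⁻¹) h1
        have e1 : (f * m⁻¹) * (m * (f⁻¹ * x * f) * m⁻¹ * b) * (f * m⁻¹)⁻¹ =
          x * ((f * m⁻¹) * b * (f * m⁻¹)⁻¹) := by group
        have e2 : (f * m⁻¹) * (b * (m * (f⁻¹ * x * f) * m⁻¹)) * (f * m⁻¹)⁻¹ =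
          (f * m⁻¹) * b * (f * m⁻¹)⁻¹ * x := by group
        have h3 : (f * m⁻¹) * (m * (f⁻¹ * x * f) * m⁻¹ * b) * (f * m⁻¹)⁻¹ =
            (f * m⁻¹) * (b * (m * (f⁻¹ * x * f) * m⁻¹)) * (f * m⁻¹)⁻¹ := by
          first
            | exact h2
            | exact h2.symm
        rw [e1, e2] at h3
        exact h3.symm
    have h3 := mul_mem hg hmM
    have e : f * m⁻¹ * m = f := by group
    rwa [e] at h3
  have hsup : (⨆ j : r, W j) = ⨆ j ∈ r, W j := iSup_subtype' (f := fun j (_ : j ∈ r) => W j) |>.symm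
  have hWV : ∀ i, W i ≤ zl (S : Subgroup G) P := h.fr.WV
  refine ⟨T, F, F ⊓ M, r, fun i => W i, fun i => z i, ?_⟩
  refine
    { syl := hp.syl
      TF₀ := le_inf hTF hTM
      F₀F := lt_of_le_of_ne inf_le_left fun e => hp.nM (inf_eq_left.1 e)
      max := fun K hTK hKF => le_inf hKF.le (hp.min K hTK hKF)
      nJ := ?_
      fin := inferInstance
      two := ⟨⟨i₀, hi₀⟩, ⟨j₀, hj₀r⟩, fun e => hne₀ (congrArg Subtype.val e)⟩
      card := fun i => by rw [(h.fr.blk i).card, h.fr.cardZ]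
      zV := fun i => Z_W h _ (hz i)
      z1 := fun i => hz1 i
      VO := fun i => (hWV i).trans hp.VO
      sq := fun i x hx => by
        rw [← pow_two]
        exact SQ1.Bau.elem_sq h.fr.el x (hWV i hx)
      comm := fun f hf i j x hx y hy => comm_of_pair h hp hf (hWV i hx) (hWV j hy)
      ind := ?_
      perm := ?_
      tr := ?_
      act := fun X hX a ha i x hx => hmf.act X (AA_two S hp.syl.2.1 hp.BT hX) a ha i x hx (z i) (hz i) (hz1 i)
      hat := ?_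
      mov := ?_
      zc := ?_
      ti := ?_ }
  · by_contra hcon
    push Not at hcon
    apply hp.nJ
    rw [← LemmaK.Main.jj_eq S hp.syl.2.1 hp.BT, Cfsg.Agent.ZN.ChoiceBase.jj_eq]
    exact sSup_le hcon
  · rintro ⟨i, hi⟩ x hx hx'
    have h1 : (⨆ j : r, ⨆ _ : j ≠ ⟨i, hi⟩, W j) ≤ C i := by
      refine iSup_le fun j => iSup_le fun hj => ?_
      exact h.fr.WjC i j fun e => hj (Subtype.ext e.symm)
    have h2 : x ∈ W i ⊓ C i := mem_inf.2 ⟨hx, h1 hx'⟩
    rwa [h.fr.dir i, mem_bot] at h2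
  · rintro t ht ⟨i, hi⟩
    obtain ⟨j, h1, h2, -⟩ := perm h (hTN ht) i
    exact ⟨⟨j, hrT t ht i j h1 hi⟩, h2, conj_gen h h1 (hz i) (hz1 i) (hz j) (hz1 j)⟩
  · rintro ⟨i, o, ho, e⟩ ⟨j, o', ho', e'⟩
    refine ⟨o' * o⁻¹, mul_mem ho' (inv_mem ho), ?_⟩
    exact W_cj h (hON (mul_mem ho' (inv_mem ho))) (cj_mul_eq (cj_inv_eq e) e')
  · rintro X hX ⟨i, hi⟩ hmv'
    obtain ⟨a, ha, h1, h2⟩ := hmf.hat X (AA_two S hp.syl.2.1 hp.BT hX) i hmv'
    exact ⟨a, ha, h1, fun j hj x hx => h2 j (fun e => hj (Subtype.ext e)) x hx⟩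
  · rintro ⟨i, hi⟩
    have h1 : A i ∈ AA T := by
      rw [mem_AA_iff]
      refine ⟨h.fr.Ael i, (h.fr.AB i).trans hp.BT, ?_⟩
      rw [mm_two S hp.syl.2.1 hp.BT, h.fr.Am i]
    have h2 := h.fr.Ane i
    push Not at h2
    obtain ⟨a, ha, v, hv, hne⟩ := h2
    exact ⟨A i, h1, a, ha, v, hv, hne⟩
  · rintro ⟨i, hi⟩ ⟨j, hj⟩ hij hall f hf
    have hij' : i ≠ j := fun e => hij (Subtype.ext e)
    have hall' : ∀ k ∈ r, k = i ∨ k = j := by
      intro k hk
      rcases hall ⟨k, hk⟩ with e | e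
      · exact Or.inl (congrArg Subtype.val e)
      · exact Or.inr (congrArg Subtype.val e)
    refine hsuppF (z i * z j) (mul_mem (h.fr.Z_le i (hz i)) (h.fr.Z_le j (hz j))) (fun k => ?_) f hf
    by_cases hki : k = i
    · subst hki
      rw [Subgroup.mul_mem_cancel_right _ (Z_C h hij' (hz j))]
      exact ⟨fun h1 => absurd h1 (not_mem_C h (hz k) (hz1 k)), fun h1 => absurd hi h1⟩
    · by_cases hkj : k = j
      · subst hkj
        rw [Subgroup.mul_mem_cancel_left _ (Z_C h hki (hz i))]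
        exact ⟨fun h1 => absurd h1 (not_mem_C h (hz k) (hz1 k)), fun h1 => absurd hj h1⟩
      · refine ⟨fun _ hk => ?_, fun _ => mul_mem (Z_C h hki (hz i)) (Z_C h hkj (hz j))⟩
        rcases hall' k hk with e | e
        · exact hki e
        · exact hkj e
  · rintro ⟨i, hi⟩ x hx hx1 f hf hxf
    rw [hsup] at hxf
    exact mem_inf.2 ⟨hf, hti i hi x hx hx1 f hf hxf⟩

/-- The conclusion of STEPS 1 and 2 (helper394). -/
def SitFalse : Prop :=
  ∀ (G : Type u) [Group G] [Finite G] (F T F₀ : Subgroup G) (κ : Type) (V : κ → Subgroup G) (z : κ → G),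
    Sit F T F₀ V z → False

/-- **THEOREM SW**: every subgroup of characteristic 2 over `B` is contained in every `M ≥ K0, N_G(B)`. -/
theorem le_of_char2 (hs : SitFalse.{u}) (h : Line S P L W Z C A 2) (hmf : MF (S : Subgroup G) L W Z)
    (hFF : FFThm.Stmt.{u}) (hA : FFBr.AStmt.{u}) {M H : Subgroup G}
    (hK : K0 (S : Subgroup G) (FBlk (S : Subgroup G)) ≤ M) (hN : normalizer (bau (S : Subgroup G) : Set G) ≤ M)
    (hB : bau (S : Subgroup G) ≤ H) (hc : H ⊓ centralizer (o2 H : Set G) ≤ o2 H) : H ≤ M := by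
  by_contra hM
  obtain ⟨T, F, F₀, κ, V, z, hS⟩ := exists_sit h hmf hFF hA hK hN hB hc hM
  exact hs G F T F₀ κ V z hS

/-- **(Om) is impossible for `q = 2`**: `K0` normalises no nontrivial 2-subgroup. -/
theorem noOm (hs : SitFalse.{u}) (h : Line S P L W Z C A 2) (hmf : MF (S : Subgroup G) L W Z)
    (hFF : FFThm.Stmt.{u}) (hA : FFBr.AStmt.{u}) :
    ∀ R : Subgroup G, IsPGroup 2 R → K0 (S : Subgroup G) (FBlk (S : Subgroup G)) ≤ normalizer (R : Set G) →
      R = ⊥ := by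
  rcases h.cases hFF with hE | ⟨M, hM, ho, -, hK, hD, -, hN, hS, hP⟩
  · exact hE
  exfalso
  have h1 := MinPar.isLoc_centralizer_zc S h.S_ne
  have h2 : FrameNOFF.CZ (S : Subgroup G) ≤ M :=
    le_of_char2 hs h hmf hFF hA hK hN ((bau_le _).trans h1.le) (h1.char2 S h.hyp.ctx.char2)
  apply ho
  refine h.hyp.nonLoc _ (isPGroup_o2 _) ?_ ?_
  · rw [← hM]; exact hP
  · rw [← hM]; exact h2

end line

end Cfsg.Agent.Omega.OM.Swap
end

-- part: Mrg/Omega/OM/SwapV/NegPair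
section
prune_inst 0xd01003200400000000000000200000002000000000000000710002000a4610238540200040102a00190024a040028000014c00090038000020008a0040000000040360e203341c0417000940f803180c00000000000000000000000000041000000000000
set_option linter.all false
open scoped Cfsg.Agent.FastGrp


/-!
# THEOREM SW, stage `-1`, over an abstract line `V` (box R, bb #24115): the frame, pairs, supports

`LineV S Q V L W Z C A q` : `G` of characteristic 2 type, the frame `Uni.Fr` over `B = bau S` with module `V` (no minimal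
parabolic `P`), at least two blocks, `V ≤ O₂(C_G(Z))`, `V` and `V^g` commute if `V^g ≤ T`, `V ≤ T^g` for some 2-group
`T ≥ B`.

* `LineV.norm` : `N_G(B) ≤ N_G(V)`;
* `exists_pair` : pairs `(T, F)`;
* `perm`, `exists_supp`, `comm_of_supp` (`q = 2`).
-/

set_option autoImplicit false
set_option linter.unusedSectionVars false

namespace Cfsg.Agent.Omega.OM.SwapV.NegPair

open Subgroup Cfsg Cfsg.Agent.ZN.ChoiceBase Cfsg.Agent.ZN.ChoiceSit
open Cfsg.Agent.ZN (jj zj bau zc zl o2)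
open Cfsg.Agent.MinSimple.MinParabolic (IsMinPar)
open Cfsg.Agent.MinSimple.VModule (oddGen oddGen_le)
open Cfsg.Agent.Omega.OM.Dich (K0 Fam)
open Cfsg.Agent.Omega.OM.BlkGen (FBlk)
open Cfsg.Agent.Omega.OM.Uni (FB Fr)
open Cfsg.Agent.Omega.OM.UniPlus (NB)
open Cfsg.Agent.Omega.OM.Swap (zj_le_bau norm_jj_le cj_mul_eq cj_inv_eq zj_cj_mem)

universe u

variable {G : Type u} [Group G] [Finite G]

/-- The line `V` with several blocks over `B = bau S`. -/
structure LineV {ι : Type} (S : Sylow 2 G) (Q V : Subgroup G) (L W Z C A : ι → Subgroup G) (q : ℕ) : Prop where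
  ch : IsCharacteristicTwoType G
  ne : (S : Subgroup G) ≠ ⊥
  low : V ≤ o2 (FrameNOFF.CZ (S : Subgroup G))
  nff : ∀ T : Subgroup G, IsPGroup 2 T → bau (S : Subgroup G) ≤ T → ∀ g : G, cj g V ≤ T → V ≤ cj g T →
    ∀ x ∈ V, ∀ y ∈ cj g V, x * y = y * x
  fr : Fr (bau (S : Subgroup G)) Q V (zj (S : Subgroup G)) L W Z C A q (mm (S : Subgroup G))
  two : ∀ i : ι, ∃ j, j ≠ i

/-- The pairs `(T, F)` of STEP 0. -/
structure Pair (S : Sylow 2 G) (V M T F : Subgroup G) : Prop where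
  syl : Syl T F
  BT : bau (S : Subgroup G) ≤ T
  nM : ¬ F ≤ M
  min : ∀ K : Subgroup G, T ≤ K → K < F → K ≤ M
  nJ : ¬ jj (S : Subgroup G) ≤ o2 F
  VO : V ≤ o2 F
  fix : zj (S : Subgroup G) ⊓ centralizer (o2 F : Set G) ≤ centralizer (F : Set G)

section line

variable {ι : Type} [Finite ι] {S : Sylow 2 G} {Q V : Subgroup G} {L W Z C A : ι → Subgroup G} {q : ℕ}

theorem V_le_bau (h : LineV S Q V L W Z C A q) : V ≤ bau (S : Subgroup G) := h.fr.VQ.trans h.fr.QB

/-- **(U1)** -/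
theorem LineV.norm (h : LineV S Q V L W Z C A q) {g : G} (hg : g ∈ normalizer (bau (S : Subgroup G) : Set G)) :
    cj g V = V ∧ ∀ i, ∃ j, cj g (Z i) = Z j ∧ cj g (W i) ≤ W j ⊔ zj (S : Subgroup G) := by
  have hgB := cj_eq_of_mem_normalizer hg
  refine h.fr.norm_of hg fun w hw v hv =>
    (h.nff _ (S.isPGroup'.to_le (bau_le _)) le_rfl g ?_ ?_ v hv w hw).symm
  · have h1 := cj_mono g (V_le_bau h)
    rwa [hgB] at h1
  · rw [hgB]
    exact V_le_bau h

theorem LineV.norm_le (h : LineV S Q V L W Z C A q) :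
    normalizer (bau (S : Subgroup G) : Set G) ≤ normalizer (V : Set G) := fun g hg => by
  rw [mem_normalizer_iff_cj]
  exact (h.norm hg).1

omit [Finite ι] in
theorem LineV.fblk (h : LineV S Q V L W Z C A q) (i : ι) : FBlk (S : Subgroup G) (L i) (W i) where
  fb := ⟨_, _, h.fr.blk i⟩
  blk := (h.fr.blk i).toBlock (h.fr.cardZ i) (S.isPGroup'.to_le (bau_le _)) (weakNormal S)

theorem LineV.fam (h : LineV S Q V L W Z C A q) : Fam S (FBlk (S : Subgroup G)) := by
  refine BlkGen.fam ?_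
  refine (h.fr.ZJV.trans h.fr.V_eq.le).trans (iSup_le fun i => ?_)
  exact le_iSup (fun i : {x : Subgroup G × Subgroup G // FBlk (S : Subgroup G) x.1 x.2} => i.1.2)
    ⟨(L i, W i), h.fblk i⟩

/-- **UNI+** -/
theorem LineV.uniPlus (h : LineV S Q V L W Z C A q) {L' V' Z' : Subgroup G} {q' : ℕ}
    (h' : FB (bau (S : Subgroup G)) L' V' Z' q') :
    q' = q ∧ ∃ i, Z' = Z i ∧ NB (bau (S : Subgroup G)) L' V' (Z i) q ∧
      ((V' ≤ W i ⊔ zj (S : Subgroup G) ∧
          (∀ z ∈ zj (S : Subgroup G), z ∈ C i ↔ ∀ l ∈ L', l * z = z * l) ∧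
          (q = 2 → V' = W i ∧ L' ≤ L i ⊔ centralizer ((W i ⊔ zj (S : Subgroup G) : Subgroup G) : Set G))) ∨
        (q = 2 ∧ Nat.card (zj (S : Subgroup G)) = 4 ∧ (∃ w' ∈ V', ∃ w ∈ W i, w' * w ≠ w * w') ∧
          ∃ c ∈ zj (S : Subgroup G), c ≠ 1 ∧ (∀ l ∈ L', l * c = c * l) ∧ ∀ k, c ∉ C k)) := by
  refine UniPlus.uniPlus' h.ch h.fr (S.isPGroup'.to_le (bau_le _)) (UniPlus.wc_bau S)
    (fun g hg w hw v hv => ?_) h.two h'
  rw [(h.norm hg).1] at hw
  exact h.fr.Vc hw hv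

/-- `V ≤ O₂(Y)` if `Y` centralises `Ω₁(Z(T))`, `B ≤ T ≤ Y`. -/
theorem V_le_o2 (h : LineV S Q V L W Z C A q) {T Y : Subgroup G} (hT : IsPGroup 2 T)
    (hB : bau (S : Subgroup G) ≤ T) (hTY : T ≤ Y) (hY : Y ≤ centralizer (zc T : Set G)) : V ≤ o2 Y := by
  obtain ⟨S', hS'⟩ := hT.exists_le_sylow
  obtain ⟨g, hg⟩ := MulAction.exists_smul_eq G S S'
  have hg2 : (S' : Subgroup G) = cj g (S : Subgroup G) := by
    rw [← hg, Sylow.coe_subgroup_smul]
    rfl
  have h1 := LemmaK.Main.bau_eq S S'.isPGroup' (hB.trans hS')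
  have h2 := LemmaK.Main.zj_eq S S'.isPGroup' (hB.trans hS')
  have hgN : g ∈ normalizer (bau (S : Subgroup G) : Set G) := by
    rw [mem_normalizer_iff_cj, ← bau_cj, ← hg2, h1]
  have h3 : zc (S' : Subgroup G) ≤ zc T := by
    intro z hz
    have h4 : z ∈ T := by
      have := zc_le_zj _ hz
      rw [h2] at this
      exact hB (zj_le_bau _ this)
    obtain ⟨h5, h6, h7⟩ := mem_zc.1 hz
    exact mem_zc.2 ⟨h4, h6, fun y hy => h7 y (hS' hy)⟩
  have h4 : Y ≤ centralizer (zc (S' : Subgroup G) : Set G) := hY.trans (centralizer_le h3)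
  have h5 : V ≤ o2 (centralizer (zc (S' : Subgroup G) : Set G)) := by
    have h6 := cj_mono g h.low
    rw [(h.norm hgN).1, ← pCore_cj, cj_centralizer, ← LemmaK.Main.zc_cj, ← hg2] at h6
    exact h6
  have h6 : V ≤ o2 (centralizer (zc (S' : Subgroup G) : Set G)) ⊓ Y :=
    le_inf h5 (((V_le_bau h).trans hB).trans hTY)
  refine h6.trans (le_o2 ((isPGroup_o2 _).to_le inf_le_left) inf_le_right ?_)
  intro y hy
  rw [mem_normalizer_iff_cj, cj_inf, cj_eq_of_mem_normalizer (le_normalizer_o2 _ (h4 hy)),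
    cj_eq_of_mem_normalizer (le_normalizer hy)]

/-- **Existence of pairs.** -/
theorem exists_pair (h : LineV S Q V L W Z C A q) (hFF : FFThm.Stmt.{u}) (hA : FFBr.AStmt.{u}) {M H : Subgroup G}
    (hK : K0 (S : Subgroup G) (FBlk (S : Subgroup G)) ≤ M) (hN : normalizer (bau (S : Subgroup G) : Set G) ≤ M)
    (hB : bau (S : Subgroup G) ≤ H) (hc : H ⊓ centralizer (o2 H : Set G) ≤ o2 H) (hM : ¬ H ≤ M) :
    ∃ T F : Subgroup G, Pair S V M T F ∧ F ≤ H := by
  have : Fact (Nat.Prime 2) := ⟨Nat.prime_two⟩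
  have hD : centralizer (zj (S : Subgroup G) : Set G) ≤ M := Dich.cent_le_K0.trans hK
  have hB2 : IsPGroup 2 (bau (S : Subgroup G)) := S.isPGroup'.to_le (bau_le _)
  obtain ⟨T₀, hT₀, hBT₀⟩ := exists_syl hB2 hB
  have hg := BlkGen.gen hFF hA hK hN hT₀ hBT₀ hc
  -- the minimal parabolic `Y`
  obtain ⟨Y, ⟨hYm, hYH, hYJ, hYc, -⟩, hYM⟩ : ∃ Y : Subgroup G, (IsMinPar T₀ Y ∧ Y ≤ H ∧ ¬ jj T₀ ≤ o2 Y ∧
      Y ≤ centralizer (zc T₀ : Set G) ∧ ¬ o2 Y ≤ bau (S : Subgroup G)) ∧ ¬ Y ≤ M := by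
    by_contra hcon
    push Not at hcon
    exact hM (hg.trans (sup_le inf_le_right (iSup_le fun Y => hcon Y.1 Y.2)))
  have hTM : T₀ ≤ M := (Dich.two_le S hT₀.2.1 hBT₀).trans hN
  have hTY : Syl T₀ Y := ⟨hYm.le, hT₀.2.1, fun Q hQ h2 hTQ => hT₀.2.2 Q (hQ.trans hYH) h2 hTQ⟩
  have hcY : Y ⊓ centralizer (o2 Y : Set G) ≤ o2 Y := by
    have h4 : o2 H ≤ o2 Y :=
      le_o2 (isPGroup_o2 H) ((o2_le_syl hT₀).trans hYm.le) (hYH.trans (le_normalizer_o2 H))
    rintro x ⟨hx, hxc⟩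
    exact h4 (hc ⟨hYH hx, centralizer_le (by exact_mod_cast h4) hxc⟩)
  have hVY : V ≤ o2 Y := V_le_o2 h hT₀.2.1 hBT₀ hYm.le hYc
  -- `Y₁ = O²(Y) O₂(Y) B`
  set Y₁ : Subgroup G := oddGen Y ⊔ (o2 Y ⊔ bau (S : Subgroup G)) with hY₁
  have hY₁Y : Y₁ ≤ Y := sup_le (oddGen_le Y) (sup_le (o2_le Y) (hBT₀.trans hYm.le))
  have hOB : IsPGroup 2 (o2 Y ⊔ bau (S : Subgroup G) : Subgroup G) :=
    hT₀.2.1.to_le (sup_le (o2_le_syl hTY) hBT₀)
  obtain ⟨T, hT, hOT⟩ := exists_syl hOB (le_sup_right : o2 Y ⊔ bau (S : Subgroup G) ≤ Y₁)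
  have hY₁M : ¬ Y₁ ≤ M := by
    intro hle
    apply hYM
    rw [← Dich.oddGen_sup_syl hTY]
    exact sup_le (le_sup_left.trans hle) hTM
  obtain ⟨F, hF⟩ := (Set.toFinite {K : Subgroup G | T ≤ K ∧ K ≤ Y₁ ∧ ¬ K ≤ M}).exists_minimal
    ⟨Y₁, hT.1, le_rfl, hY₁M⟩
  obtain ⟨hTF, hFY₁, hFM⟩ := hF.prop
  have hFY : F ≤ Y := hFY₁.trans hY₁Y
  have hsyl : Syl T F := ⟨hTF, hT.2.1, fun Q hQ h2 hle => hT.2.2 Q (hQ.trans hFY₁) h2 hle⟩
  have hBT : bau (S : Subgroup G) ≤ T := le_sup_right.trans hOT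
  have hOF : o2 Y ≤ o2 F :=
    le_o2 (isPGroup_o2 Y) ((le_sup_left.trans hOT).trans hTF) (hFY.trans (le_normalizer_o2 Y))
  refine ⟨T, F, ⟨hsyl, hBT, hFM, fun K hTK hKF => ?_, fun hJ => hFM ?_, hVY.trans hOF, ?_⟩, hFY.trans hYH⟩
  · by_contra hKM
    exact hKF.not_ge (hF.le_of_le ⟨hTK, hKF.le.trans hFY₁, hKM⟩ hKF.le)
  · have hjT : jj T = jj (S : Subgroup G) := LemmaK.Main.jj_eq S hT.2.1 hBT
    have h2 : jj (o2 F) = jj (S : Subgroup G) := by
      rw [← hjT]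
      exact jj_eq_of_jj_le (hjT ▸ hJ) (o2_le_syl hsyl)
    have h3 := (le_normalizer_o2 F).trans (normalizer_le_jj (o2 F))
    rw [h2] at h3
    exact h3.trans (norm_jj_le S hD hN)
  · rintro z ⟨hz, hzc⟩
    have hzB : z ∈ bau (S : Subgroup G) := zj_le_bau _ hz
    have hzO : ∀ y ∈ o2 Y, y * z = z * y := fun y hy => mem_centralizer_iff.1 hzc y (hOF hy)
    have hz1 : z ∈ zc (o2 Y) := by
      refine mem_zc.2 ⟨hcY ⟨hYm.le (hBT₀ hzB), mem_centralizer_iff.2 hzO⟩, (mem_zj.1 hz).2.1, hzO⟩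
    have hz2 : z ∈ centralizer (oddGen Y : Set G) := FixPt.fixPt hA hTY hYm hYJ hYc hz1
    have hle : Y₁ ≤ centralizer ({z} : Set G) := by
      refine sup_le (fun y hy => ?_) (sup_le (fun y hy => ?_) fun y hy => ?_) <;>
        rw [mem_centralizer_singleton_iff]
      · exact mem_centralizer_iff.1 hz2 y hy
      · exact hzO y hy
      · exact ((mem_bau.1 hy).2 z hz).symm
    rw [mem_centralizer_iff]
    intro y hy
    exact mem_centralizer_singleton_iff.1 (hle (hFY₁ hy))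

end line

/-! ### Supports (`q = 2`) -/

section supp

variable {ι : Type} [Finite ι] {S : Sylow 2 G} {Q V : Subgroup G} {L W Z C A : ι → Subgroup G}

/-- `N_G(B)` permutes the triples `(W i, Z i, Z_J ∩ C i)`. -/
theorem perm (h : LineV S Q V L W Z C A 2) {g : G} (hg : g ∈ normalizer (bau (S : Subgroup G) : Set G)) (i : ι) :
    ∃ j, cj g (Z i) = Z j ∧ cj g (W i) = W j ∧
      ∀ z ∈ zj (S : Subgroup G), (g * z * g⁻¹ ∈ C j ↔ z ∈ C i) := by
  have h' : FB (bau (S : Subgroup G)) (cj g (L i)) (cj g (W i)) (cj g (Z i)) 2 := by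
    have := (h.fr.blk i).conj g
    rwa [cj_eq_of_mem_normalizer hg] at this
  obtain ⟨-, j, hZ, -, h1 | ⟨-, -, ⟨w', hw', w, hw, hne⟩, -⟩⟩ := h.uniPlus h'
  · obtain ⟨-, hC, h2⟩ := h1
    refine ⟨j, hZ, (h2 rfl).1, fun z hz => ?_⟩
    have hz' : g * z * g⁻¹ ∈ zj (S : Subgroup G) := by
      have h3 := cj_eq_of_mem_normalizer (Dich.norm_zj _ hg)
      rw [← h3]
      exact ⟨z, hz, rfl⟩
    rw [hC _ hz', UniPlus.mem_C_iff h.fr hz]
    constructor
    · intro h3 l hl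
      have h4 := h3 (g * l * g⁻¹) ⟨l, hl, rfl⟩
      have h5 := congrArg (fun t => g⁻¹ * t * g) h4
      simpa only [mul_assoc, _root_.inv_mul_cancel_left, _root_.inv_mul_cancel, _root_.mul_one] using h5
    · intro h3 l hl
      have h4 := h3 _ (mem_cj.1 hl)
      have h5 := congrArg (fun t => g * t * g⁻¹) h4
      simpa only [mul_assoc, _root_.mul_inv_cancel_left, _root_.mul_inv_cancel, _root_.mul_one] using h5
  · exfalso
    apply hne
    refine h.fr.Vc ?_ (h.fr.WV j hw)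
    rw [← (h.norm hg).1]
    exact cj_mono g (h.fr.WV i) hw'

theorem Z_ne (h : LineV S Q V L W Z C A 2) (i : ι) : ∃ z ∈ Z i, z ≠ 1 := by
  have h1 : 1 < Nat.card (Z i) := by rw [h.fr.cardZ i]; norm_num
  have : Nontrivial (Z i) := Finite.one_lt_card_iff_nontrivial.1 h1
  obtain ⟨z, hz⟩ := exists_ne (1 : Z i)
  exact ⟨z, z.2, fun h => hz (Subtype.ext h)⟩

theorem Z_W (h : LineV S Q V L W Z C A 2) (i : ι) : Z i ≤ W i := (h.fr.blk i).ZV

theorem not_mem_C (h : LineV S Q V L W Z C A 2) {i : ι} {z : G} (hz : z ∈ Z i) (h1 : z ≠ 1) : z ∉ C i := by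
  intro hc
  have h2 : z ∈ W i ⊓ C i := mem_inf.2 ⟨Z_W h i hz, hc⟩
  rw [h.fr.dir i, mem_bot] at h2
  exact h1 h2

theorem Z_C (h : LineV S Q V L W Z C A 2) {i j : ι} (hij : i ≠ j) : Z j ≤ C i := (Z_W h j).trans (h.fr.WjC i j hij)

/-- `Z` is injective. -/
theorem Z_inj (h : LineV S Q V L W Z C A 2) {i j : ι} (e : Z i = Z j) : i = j := by
  by_contra hne
  obtain ⟨z, hz, hz1⟩ := Z_ne h i
  exact not_mem_C h hz hz1 (Z_C h hne (e ▸ hz))

theorem Z_eq (h : LineV S Q V L W Z C A 2) {i : ι} {x y : G} (hx : x ∈ Z i) (hy : y ∈ Z i) (hx1 : x ≠ 1)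
    (hy1 : y ≠ 1) : x = y := UniPlus.eq_of_card_two (h.fr.cardZ i) hx hy hx1 hy1

/-- If `g` normalises `Z i` it centralises it. -/
theorem cent_of_cj (h : LineV S Q V L W Z C A 2) {i : ι} {g : G} (e : cj g (Z i) = Z i) {z : G} (hz : z ∈ Z i) :
    g * z = z * g := by
  by_cases h1 : z = 1
  · rw [h1]; simp
  have h2 : g * z * g⁻¹ ∈ Z i := by rw [← e]; exact ⟨z, hz, rfl⟩
  have h3 := Z_eq h h2 hz (fun h3 => h1 (by simpa only [_root_.conj_eq_one_iff] using h3)) h1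
  exact mul_inv_eq_iff_eq_mul.1 h3

/-- If `g` moves `Z i` to `Z j` it moves the generator to the generator. -/
theorem conj_gen (h : LineV S Q V L W Z C A 2) {i j : ι} {g : G} (e : cj g (Z i) = Z j) {z w : G} (hz : z ∈ Z i)
    (h1 : z ≠ 1) (hw : w ∈ Z j) (h2 : w ≠ 1) : g * z * g⁻¹ = w :=
  Z_eq h (by rw [← e]; exact ⟨z, hz, rfl⟩) hw (fun h3 => h1 (by simpa only [_root_.conj_eq_one_iff] using h3)) h2

/-- An element of `Z_J` is determined by its support. -/
theorem eq_of_supp (h : LineV S Q V L W Z C A 2) {x y : G} (hx : x ∈ zj (S : Subgroup G))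
    (hy : y ∈ zj (S : Subgroup G)) (hs : ∀ i, x ∈ C i ↔ y ∈ C i) : x = y := by
  have hxV := h.fr.ZJV hx
  have hyV := h.fr.ZJV hy
  have h1 : x * y⁻¹ = 1 := by
    refine h.fr.C0 _ (mul_mem hxV (inv_mem hyV)) fun i => ?_
    by_cases hxi : x ∈ C i
    · exact mul_mem hxi (inv_mem ((hs i).1 hxi))
    have hyi : y ∉ C i := fun hc => hxi ((hs i).2 hc)
    obtain ⟨w, hw, c, hc, -, e⟩ := h.fr.split_ZJ i hx
    obtain ⟨w', hw', c', hc', -, e'⟩ := h.fr.split_ZJ i hy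
    have hw1 : w ≠ 1 := by
      rintro rfl
      exact hxi (by rw [e, one_mul]; exact hc)
    have hw1' : w' ≠ 1 := by
      rintro rfl
      exact hyi (by rw [e', one_mul]; exact hc')
    have h2 := Z_eq h hw hw' hw1 hw1'
    have h3 : w * c = c * w := h.fr.Vc (h.fr.ZV i hw) (h.fr.CV i hc)
    have h4 : w * c' = c' * w := h.fr.Vc (h.fr.ZV i hw) (h.fr.CV i hc')
    have e1 : x * y⁻¹ = c * c'⁻¹ := by
      rw [e, e', ← h2, h3, h4]; group
    rw [e1]
    exact mul_mem hc (inv_mem hc')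
  exact mul_inv_eq_one.1 h1

/-- Every subset of the index set is a support. -/
theorem exists_supp (h : LineV S Q V L W Z C A 2) (s : Set ι) :
    ∃ x ∈ zj (S : Subgroup G), ∀ i, (x ∈ C i ↔ i ∉ s) := by
  classical
  have : Fintype ι := Fintype.ofFinite ι
  suffices H : ∀ t : Finset ι, ∃ x ∈ zj (S : Subgroup G), ∀ i, (x ∈ C i ↔ i ∉ t) by
    obtain ⟨x, hx, hs⟩ := H s.toFinset
    exact ⟨x, hx, fun i => by rw [hs i, Set.mem_toFinset]⟩
  intro t
  induction t using Finset.induction_on with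
  | empty => exact ⟨1, one_mem _, fun i => by simp [one_mem]⟩
  | insert j t hj ih =>
    obtain ⟨x, hx, hs⟩ := ih
    obtain ⟨z, hz, hz1⟩ := Z_ne h j
    refine ⟨x * z, mul_mem hx (h.fr.Z_le j hz), fun i => ?_⟩
    by_cases hij : i = j
    · subst hij
      have h1 : x ∈ C i := (hs i).2 hj
      constructor
      · intro h2
        exact absurd ((Subgroup.mul_mem_cancel_left _ h1).1 h2) (not_mem_C h hz hz1)
      · intro h2
        exact absurd (Finset.mem_insert_self i t) h2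
    · have h1 : z ∈ C i := Z_C h hij hz
      rw [Subgroup.mul_mem_cancel_right _ h1, hs i, Finset.mem_insert, not_or]
      exact ⟨fun h2 => ⟨hij, h2⟩, fun h2 => h2.2⟩

/-- The support of a conjugate under `N_G(B)`. -/
theorem supp_cj (h : LineV S Q V L W Z C A 2) {g : G} (hg : g ∈ normalizer (bau (S : Subgroup G) : Set G)) {i j : ι}
    (e : cj g (Z i) = Z j) {z : G} (hz : z ∈ zj (S : Subgroup G)) : g * z * g⁻¹ ∈ C j ↔ z ∈ C i := by
  obtain ⟨k, h1, -, h2⟩ := perm h hg i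
  have h3 : j = k := Z_inj h (e.symm.trans h1)
  rw [h3]
  exact h2 z hz

theorem W_cj (h : LineV S Q V L W Z C A 2) {g : G} (hg : g ∈ normalizer (bau (S : Subgroup G) : Set G)) {i j : ι}
    (e : cj g (Z i) = Z j) : cj g (W i) = W j := by
  obtain ⟨k, h1, h2, -⟩ := perm h hg i
  have h3 : j = k := Z_inj h (e.symm.trans h1)
  rw [h3]
  exact h2

/-- `g ∈ N_G(B)` centralises `z ∈ Z_J` if it stabilises its support. -/
theorem comm_of_supp (h : LineV S Q V L W Z C A 2) {g : G} (hg : g ∈ normalizer (bau (S : Subgroup G) : Set G)) {z : G}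
    (hz : z ∈ zj (S : Subgroup G)) (hs : ∀ i j, cj g (Z i) = Z j → (z ∈ C i ↔ z ∈ C j)) : g * z = z * g := by
  have h1 : g * z * g⁻¹ = z := by
    refine eq_of_supp h (zj_cj_mem hg hz) hz fun j => ?_
    obtain ⟨i, hi, -, -⟩ := perm h (inv_mem hg) j
    have e : cj g (Z i) = Z j := by
      have := cj_inv_eq hi
      rwa [inv_inv] at this
    rw [supp_cj h hg e hz]
    exact hs i j e
  exact mul_inv_eq_iff_eq_mul.1 h1

end supp

end Cfsg.Agent.Omega.OM.SwapV.NegPair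
end

-- part: Mrg/Omega/OM/Swap/End
section
prune_inst 0x100000000000000018000020000000000000000000000051000200024610232505200140402a00091024600000000000000009000000002000820000000000040240020300000407000940f802000000000000000000000000000000041000000000000
set_option linter.all false
open scoped Cfsg.Agent.FastGrp

-- merged: Cfsg.Agent.Mrg.Omega.OM.Swap.Star
section

/-!
# THEOREM SW: the star lemma

`StarH.out : StarH F T V z i j c a → ∃ D E, StarO F V z i j D E`; `Sit.false`, `SitF.false`.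
-/

set_option autoImplicit false

namespace Cfsg.Agent.Omega.OM.Swap

open Subgroup Cfsg Cfsg.Agent.ZN Cfsg.Agent.ZN.ChoiceBase Cfsg.Agent.ZN.ChoiceSit

universe u

/-- The input of the star lemma. -/
structure StarH {G : Type u} [Group G] {ι : Type*} (F T : Subgroup G) (V : ι → Subgroup G) (z : ι → G) (i j : ι)
    (c a : G) : Prop where
  syl : Syl T F
  card : ∀ i, Nat.card (V i) = 4
  zV : ∀ i, z i ∈ V i
  z1 : ∀ i, z i ≠ 1
  sq : ∀ i, ∀ x ∈ V i, x * x = 1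
  cm : ∀ i j, ∀ x ∈ V i, ∀ y ∈ V j, x * y = y * x
  ind : ∀ i, ∀ x ∈ V i, x ∈ (⨆ j, ⨆ _ : j ≠ i, V j) → x = 1
  perm : ∀ t ∈ T, ∀ i, ∃ j, cj t (V i) = V j ∧ t * z i * t⁻¹ = z j
  tr : ∀ i j, ∃ o ∈ o2 F, cj o (V i) = V j
  mov : ∀ i, ∃ t ∈ T, (∃ x ∈ V i, t * x ≠ x * t) ∧ ∀ j, j ≠ i → ∀ x ∈ V j, t * x = x * t
  ti : ∀ i, ∀ x ∈ V i, x ≠ 1 → x ∉ cj a (⨆ j, V j)
  ij : i ≠ j
  cT : c ∈ T
  cc : ∀ u ∈ ⨆ k, V k, c * (c * u * c⁻¹) * c⁻¹ = u
  cV : cj c (V i) = V j
  aF : a ∈ F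
  star : ∀ x ∈ V i, a * (x * (c * x * c⁻¹)) = x * (c * x * c⁻¹) * a

section Four

open M4

variable {G : Type u} [Group G]

/-- `⟨x, z⟩` in coordinates -/
def al {x z : G} (hx : x * x = 1) (hz' : z * z = 1) (hc : x * z = z * x) : Z2 × Z2 →* G :=
  MonoidHom.noncommCoprod (hz x hx) (hz z hz') (by
    intro m n
    rcases z2_cases m with rfl | rfl
    · rw [map_one]; exact Commute.one_left _
    · rcases z2_cases n with rfl | rfl
      · rw [map_one]; exact Commute.one_right _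
      · rw [hz_g, hz_g]; exact hc)

theorem al_gg {x z : G} (hx : x * x = 1) (hz' : z * z = 1) (hc : x * z = z * x) : al hx hz' hc (g, g) = x * z := by
  change hz x hx g * hz z hz' g = x * z
  rw [hz_g, hz_g]

theorem al_g1 {x z : G} (hx : x * x = 1) (hz' : z * z = 1) (hc : x * z = z * x) : al hx hz' hc (g, 1) = x := by
  change hz x hx g * hz z hz' 1 = x
  rw [hz_g, map_one, mul_one]

theorem al_1g {x z : G} (hx : x * x = 1) (hz' : z * z = 1) (hc : x * z = z * x) : al hx hz' hc (1, g) = z := by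
  change hz x hx 1 * hz z hz' g = z
  rw [hz_g, map_one, one_mul]

theorem al_inj {x z : G} (hx : x * x = 1) (hz' : z * z = 1) (hc : x * z = z * x) (x1 : x ≠ 1) (z1 : z ≠ 1)
    (xz : x ≠ z) : Function.Injective (al hx hz' hc) := by
  rw [injective_iff_map_eq_one]
  rintro ⟨m, n⟩ hm
  rcases z2_cases m with rfl | rfl <;> rcases z2_cases n with rfl | rfl
  · rfl
  · rw [al_1g] at hm; exact absurd hm z1
  · rw [al_g1] at hm; exact absurd hm x1
  · rw [al_gg] at hm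
    exact absurd ((eq_inv_of_mul_eq_one_left hm).trans (inv_eq_of_mul_eq_one_left hz')) xz

theorem al_range {x z : G} (hx : x * x = 1) (hz' : z * z = 1) (hc : x * z = z * x) (x1 : x ≠ 1) (z1 : z ≠ 1)
    (xz : x ≠ z) {W : Subgroup G} (hW : Nat.card W = 4) (hxW : x ∈ W) (hzW : z ∈ W) : (al hx hz' hc).range = W := by
  have : Finite W := Nat.finite_of_card_ne_zero (by rw [hW]; decide)
  apply eq_of_le_of_card_ge
  · rintro _ ⟨⟨m, n⟩, rfl⟩
    rcases z2_cases m with rfl | rfl <;> rcases z2_cases n with rfl | rfl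
    · change al hx hz' hc 1 ∈ W
      rw [map_one]; exact one_mem _
    · rw [al_1g]; exact hzW
    · rw [al_g1]; exact hxW
    · rw [al_gg]; exact mul_mem hxW hzW
  · have h1 : Nat.card (al hx hz' hc).range = Nat.card (Z2 × Z2) :=
      (Nat.card_congr (MonoidHom.ofInjective (al_inj hx hz' hc x1 z1 xz)).toEquiv).symm
    rw [hW, h1, Nat.card_eq_fintype_card]
    decide

/-- The elements of a four group. -/
theorem four {x z : G} (hx : x * x = 1) (hz' : z * z = 1) (hc : x * z = z * x) (x1 : x ≠ 1) (z1 : z ≠ 1)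
    (xz : x ≠ z) {W : Subgroup G} (hW : Nat.card W = 4) (hxW : x ∈ W) (hzW : z ∈ W) {y : G} (hy : y ∈ W) :
    y = 1 ∨ y = z ∨ y = x ∨ y = x * z := by
  rw [← al_range hx hz' hc x1 z1 xz hW hxW hzW] at hy
  obtain ⟨⟨m, n⟩, rfl⟩ := hy
  rcases z2_cases m with rfl | rfl <;> rcases z2_cases n with rfl | rfl
  · left; exact map_one _
  · right; left; exact al_1g _ _ _
  · right; right; left; exact al_g1 _ _ _
  · right; right; right; exact al_gg _ _ _

end Four

open M4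

namespace StarH

variable {G : Type u} [Group G] {ι : Type*} {F T : Subgroup G} {V : ι → Subgroup G} {z : ι → G} {i j : ι} {c a : G}

variable (h : StarH F T V z i j c a)
include h

theorem V_inj {k l : ι} (e : V k = V l) : k = l := by
  by_contra hne
  refine h.z1 k (h.ind k _ (h.zV k) ?_)
  have h1 : V l ≤ ⨆ j, ⨆ _ : j ≠ k, V j := le_iSup₂_of_le l (Ne.symm hne) le_rfl
  exact h1 (e ▸ h.zV k)

theorem inv_eq {k : ι} {x : G} (hx : x ∈ V k) : x⁻¹ = x := inv_eq_of_mul_eq_one_left (h.sq k x hx)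

/-- An element of `T` which maps `V k` to `V l` maps `z k` to `z l`. -/
theorem z_of {t : G} (ht : t ∈ T) {k l : ι} (e : cj t (V k) = V l) : t * z k * t⁻¹ = z l := by
  obtain ⟨m, hm, hz⟩ := h.perm t ht k
  have : m = l := h.V_inj (hm.symm.trans e)
  rw [← this]
  exact hz

theorem cj_inj {t : G} {k l m : ι} (e : cj t (V k) = V m) (e' : cj t (V l) = V m) : k = l := by
  apply h.V_inj
  have h1 := congrArg (cj t⁻¹) (e.trans e'.symm)
  rwa [cj_inv_cj, cj_inv_cj] at h1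

theorem cj_T_le {t : G} (ht : t ∈ T) : cj t (⨆ k, V k) ≤ ⨆ k, V k := by
  rw [cj_iSup]
  refine iSup_le fun i => ?_
  obtain ⟨j, hj, -⟩ := h.perm t ht i
  rw [hj]
  exact le_iSup V j

theorem cj_T {t : G} (ht : t ∈ T) : cj t (⨆ k, V k) = ⨆ k, V k := by
  refine le_antisymm (h.cj_T_le ht) ?_
  have h1 := cj_mono t (h.cj_T_le (inv_mem ht))
  rwa [cj_cj_inv] at h1

theorem O_le [Finite G] : o2 F ≤ T := o2_le_syl h.syl

/-- `O` normalises `cj a U`. -/
theorem conj_a [Finite G] {o : G} (ho : o ∈ o2 F) : cj o (cj a (⨆ k, V k)) = cj a (⨆ k, V k) := by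
  have h1 : a⁻¹ * o * a ∈ o2 F := by
    have h2 := cj_eq_of_mem_normalizer (ChoiceSit.le_normalizer_o2 F h.aF)
    rw [← h2] at ho
    exact mem_cj.1 ho
  have e : o * a = a * (a⁻¹ * o * a) := by group
  rw [cj_cj, e, ← cj_cj, h.cj_T (h.O_le h1)]

/-- The transvection on `V k`. -/
theorem exists_t (k : ι) : ∃ t ∈ T, ∃ x ∈ V k, x ≠ 1 ∧ x ≠ z k ∧ cj t (V k) = V k ∧ t * z k * t⁻¹ = z k ∧
    t * x * t⁻¹ = x * z k ∧ ∀ l, l ≠ k → ∀ y ∈ V l, t * y = y * t := by
  obtain ⟨t, ht, ⟨x, hx, hm⟩, ho⟩ := h.mov k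
  have h1 : cj t (V k) = V k := by
    obtain ⟨l, hl, -⟩ := h.perm t ht k
    by_cases hlk : l = k
    · rw [hlk] at hl; exact hl
    · exfalso
      have h2 : cj t (V l) = V l := by
        apply le_antisymm
        · intro y hy
          have h3 := mem_cj.1 hy
          have h4 := ho l hlk _ h3
          have h5 : t⁻¹ * y * t = y := by
            have : t * (t⁻¹ * y * t) = y * t := by group
            rw [this] at h4
            exact (mul_right_cancel h4).symm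
          rwa [h5] at h3
        · intro y hy
          rw [mem_cj]
          have h4 := ho l hlk _ hy
          have h5 : t⁻¹ * y * t = y := by
            rw [mul_assoc, ← h4, inv_mul_cancel_left]
          rwa [h5]
      exact hlk (h.cj_inj hl h2).symm
  have hz := h.z_of ht h1
  have hx1 : x ≠ 1 := by
    rintro rfl
    exact hm (by rw [mul_one, one_mul])
  have hxz : x ≠ z k := by
    rintro rfl
    exact hm (mul_inv_eq_iff_eq_mul.1 hz)
  refine ⟨t, ht, x, hx, hx1, hxz, h1, hz, ?_, ho⟩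
  have h2 : t * x * t⁻¹ ∈ V k := by
    rw [← h1]
    exact conj_mem_cj hx
  rcases four (h.sq k x hx) (h.sq k _ (h.zV k)) (h.cm k k x hx _ (h.zV k)) hx1 (h.z1 k) hxz (h.card k) hx (h.zV k) h2
    with h3 | h3 | h3 | h3
  · exact absurd (conj_eq_one_iff.1 h3) hx1
  · rw [← hz] at h3
    exact absurd (mul_left_cancel (mul_right_cancel h3)) hxz
  · exact absurd (mul_inv_eq_iff_eq_mul.1 h3) hm
  · exact h3

omit h in
theorem cj_hom (w u v : G) : w * (u * v) * w⁻¹ = (w * u * w⁻¹) * (w * v * w⁻¹) := by group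

/-- `O` normalises `I = U ⊓ cj a U`. -/
theorem I_nor [Finite G] {o u : G} (ho : o ∈ o2 F) (hu : u ∈ (⨆ k, V k) ⊓ cj a (⨆ k, V k)) :
    o * u * o⁻¹ ∈ (⨆ k, V k) ⊓ cj a (⨆ k, V k) := by
  constructor
  · rw [← h.cj_T (h.O_le ho)]
    exact conj_mem_cj hu.1
  · rw [← h.conj_a ho]
    exact conj_mem_cj hu.2

theorem star_mem {x : G} (hx : x ∈ V i) : x * (c * x * c⁻¹) ∈ (⨆ k, V k) ⊓ cj a (⨆ k, V k) := by
  have h1 : x * (c * x * c⁻¹) ∈ ⨆ k, V k := by
    refine mul_mem (le_iSup V i hx) (le_iSup V j ?_)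
    rw [← h.cV]; exact conj_mem_cj hx
  refine mem_inf.2 ⟨h1, mem_cj.2 ?_⟩
  have h2 := h.star x hx
  have h3 : a⁻¹ * (x * (c * x * c⁻¹)) * a = x * (c * x * c⁻¹) := by
    rw [mul_assoc, ← h2, inv_mul_cancel_left]
  rwa [h3]

theorem fix_conj {t s : G} {k l : ι} (hto : ∀ l, l ≠ k → ∀ y ∈ V l, t * y = y * t) (hs : s ∈ T)
    (hne : cj s (V k) ≠ V l) {u : G} (hu : u ∈ V l) : t * (s⁻¹ * u * s) * t⁻¹ = s⁻¹ * u * s := by
  obtain ⟨m, hm, -⟩ := h.perm s⁻¹ (inv_mem hs) l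
  have hmk : m ≠ k := by
    rintro rfl
    apply hne
    rw [← hm, cj_cj_inv]
  have h1 : s⁻¹ * u * s ∈ V m := by
    rw [← hm]
    have := conj_mem_cj (g := s⁻¹) hu
    rwa [inv_inv] at this
  exact mul_inv_eq_iff_eq_mul.2 (hto m hmk _ h1)

/-- Third factors do not exist. -/
theorem only [Finite G] (k : ι) : k = i ∨ k = j := by
  by_contra hk
  rw [not_or] at hk
  obtain ⟨t, ht, x, hx, x1, xz, htV, htz, htx, hto⟩ := h.exists_t i
  obtain ⟨s, hs, hsV⟩ := h.tr i k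
  have hsT := h.O_le hs
  have hzi := h.zV i
  have zz := h.sq i _ hzi
  -- `t⁻¹ x t = x z`
  have hcz := h.cm i i x hx _ hzi
  have h1 : t⁻¹ * x * t = x * z i := by
    have e1 : t⁻¹ * (t * x * t⁻¹) * t = x := by group
    have e2 : t⁻¹ * (t * z i * t⁻¹) * t = z i := by group
    rw [htx] at e1
    rw [htz] at e2
    have e3 : t⁻¹ * (x * z i) * t = (t⁻¹ * x * t) * (t⁻¹ * z i * t) := by group
    rw [e3, e2] at e1
    rw [← mul_inv_eq_iff_eq_mul.2 e1.symm, h.inv_eq hzi] 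
  have hstar := h.star_mem hx
  set y := c * x * c⁻¹ with hy
  have hyV : y ∈ V j := by rw [← h.cV]; exact conj_mem_cj hx
  have hw : s * (t * s⁻¹ * t⁻¹) ∈ o2 F := by
    refine mul_mem hs ?_
    have h2 := cj_eq_of_mem_normalizer (ChoiceSit.le_normalizer_o2 F (h.syl.1 ht))
    rw [← h2]
    exact conj_mem_cj (inv_mem hs)
  have hI := h.I_nor hw hstar
  have hwx : ∀ u : G, (s * (t * s⁻¹ * t⁻¹)) * u * (s * (t * s⁻¹ * t⁻¹))⁻¹ =
      s * (t * (s⁻¹ * (t⁻¹ * u * t) * s) * t⁻¹) * s⁻¹ := fun u => by group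
  have h3 : (s * (t * s⁻¹ * t⁻¹)) * x * (s * (t * s⁻¹ * t⁻¹))⁻¹ = x * z i := by
    rw [hwx, h1, h.fix_conj hto hsT (l := i) ?_ (mul_mem hx hzi)]
    · group
    · rw [hsV]
      exact fun e => hk.1 (h.V_inj e)
  have h4 : (s * (t * s⁻¹ * t⁻¹)) * y * (s * (t * s⁻¹ * t⁻¹))⁻¹ = y := by
    have h5 : t⁻¹ * y * t = y := by
      rw [mul_assoc, ← hto j h.ij.symm y hyV, inv_mul_cancel_left]
    rw [hwx, h5, h.fix_conj hto hsT (l := j) ?_ hyV]
    · group
    · rw [hsV]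
      exact fun e => hk.2 (h.V_inj e)
  rw [cj_hom, h3, h4] at hI
  have h7 := mul_mem hstar hI
  have c1 := h.cm j i y hyV x hx
  have c2 := h.cm j i y hyV _ hzi
  have e : x * y * (x * z i * y) = z i := by
    calc x * y * (x * z i * y) = x * (y * x) * z i * y := by group
      _ = x * x * (y * z i) * y := by rw [c1]; group
      _ = x * x * z i * (y * y) := by rw [c2]; group
      _ = z i := by rw [h.sq i x hx, h.sq j y hyV, one_mul, mul_one]
  rw [e] at h7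
  exact h.ti i _ hzi (h.z1 i) h7.2

/-- `z i, z j ∉ I`. -/
theorem z_notMem (k : ι) : z k ∉ (⨆ k, V k) ⊓ cj a (⨆ k, V k) := fun h1 => h.ti k _ (h.zV k) (h.z1 k) h1.2

/-- The coordinates. -/
structure Co {G : Type u} [Group G] {ι : Type*} (F T : Subgroup G) (V : ι → Subgroup G) (z : ι → G) (i j : ι)
    (c a : G) (x : G) (φ : M4 →* G) : Prop where
  inj : Function.Injective φ
  range : φ.range = ⨆ k, V k
  e1 : φ e1 = x
  e2 : φ e2 = z i
  e3 : φ e3 = c * x * c⁻¹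
  e4 : φ e4 = z j
  hi : ∀ p, φ (p, 1) ∈ V i
  hj : ∀ p, φ (1, p) ∈ V j

theorem exists_co [Finite G] {x : G} (hx : x ∈ V i) (x1 : x ≠ 1) (xz : x ≠ z i) :
    ∃ φ : M4 →* G, Co F T V z i j c a x φ := by
  have hzi := h.zV i
  have hzj := h.zV j
  have hy : c * x * c⁻¹ ∈ V j := by rw [← h.cV]; exact conj_mem_cj hx
  have hz := h.z_of h.cT h.cV
  have y1 : c * x * c⁻¹ ≠ 1 := fun e => x1 (conj_eq_one_iff.1 e)
  have yz : c * x * c⁻¹ ≠ z j := fun e => xz (by
    rw [← hz] at e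
    exact mul_left_cancel (mul_right_cancel e))
  let A := al (h.sq i x hx) (h.sq i _ hzi) (h.cm i i x hx _ hzi)
  let B := al (h.sq j _ hy) (h.sq j _ hzj) (h.cm j j _ hy _ hzj)
  have hA : A.range = V i := al_range _ _ _ x1 (h.z1 i) xz (h.card i) hx hzi
  have hB : B.range = V j := al_range _ _ _ y1 (h.z1 j) yz (h.card j) hy hzj
  have hAm : ∀ p, A p ∈ V i := fun p => by rw [← hA]; exact ⟨p, rfl⟩
  have hBm : ∀ p, B p ∈ V j := fun p => by rw [← hB]; exact ⟨p, rfl⟩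
  have hAi : Function.Injective A := al_inj _ _ _ x1 (h.z1 i) xz
  have hBi : Function.Injective B := al_inj _ _ _ y1 (h.z1 j) yz
  let φ : M4 →* G := MonoidHom.noncommCoprod A B fun m n => h.cm i j _ (hAm m) _ (hBm n)
  have hφ : ∀ p q, φ (p, q) = A p * B q := fun _ _ => rfl
  refine ⟨φ, ?_, ?_, ?_, ?_, ?_, ?_, ?_, ?_⟩
  · rw [injective_iff_map_eq_one]
    rintro ⟨p, q⟩ hm
    rw [hφ] at hm
    have h1 : A p = (B q)⁻¹ := eq_inv_of_mul_eq_one_left hm
    have h2 : A p = 1 := h.ind i _ (hAm p) (by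
      rw [h1]
      exact le_iSup₂_of_le (f := fun j (_ : j ≠ i) => V j) j h.ij.symm le_rfl (inv_mem (hBm q)))
    rw [h2, one_mul] at hm
    rw [← map_one A] at h2
    rw [← map_one B] at hm
    rw [hAi h2, hBi hm]
    rfl
  · apply le_antisymm
    · rintro _ ⟨⟨p, q⟩, rfl⟩
      rw [hφ]
      exact mul_mem (le_iSup V i (hAm p)) (le_iSup V j (hBm q))
    · refine iSup_le fun k => ?_
      rcases h.only k with rfl | rfl
      · rw [← hA]
        rintro _ ⟨p, rfl⟩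
        exact ⟨(p, 1), by rw [hφ, map_one, mul_one]⟩
      · rw [← hB]
        rintro _ ⟨p, rfl⟩
        exact ⟨(1, p), by rw [hφ, map_one, one_mul]⟩
  · rw [hφ]
    exact (congrArg₂ _ (al_g1 _ _ _) (map_one B)).trans (mul_one _)
  · rw [hφ]
    exact (congrArg₂ _ (al_1g _ _ _) (map_one B)).trans (mul_one _)
  · rw [hφ]
    exact (congrArg₂ _ (map_one A) (al_g1 _ _ _)).trans (one_mul _)
  · rw [hφ]
    exact (congrArg₂ _ (map_one A) (al_1g _ _ _)).trans (one_mul _)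
  · intro p
    rw [hφ, map_one, mul_one]
    exact hAm p
  · intro p
    rw [hφ, map_one, one_mul]
    exact hBm p

omit h in
/-- Conjugation by `o` in coordinates, from the four generators. -/
theorem conj_of {φ : M4 →* G} {ψ : M4 →* M4} {o : G} (h1 : o * φ e1 * o⁻¹ = φ (ψ e1)) (h2 : o * φ e2 * o⁻¹ = φ (ψ e2))
    (h3 : o * φ e3 * o⁻¹ = φ (ψ e3)) (h4 : o * φ e4 * o⁻¹ = φ (ψ e4)) (m : M4) : o * φ m * o⁻¹ = φ (ψ m) := by
  have : (MulAut.conj o).toMonoidHom.comp φ = φ.comp ψ := hom_ext h1 h2 h3 h4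
  exact DFunLike.congr_fun this m

theorem cls_i [Finite G] {x : G} {φ : M4 →* G} (hc : Co F T V z i j c a x φ) (hx : x ∈ V i) (x1 : x ≠ 1)
    (xz : x ≠ z i) {u : G} (hu : u ∈ V i) (u1 : u ≠ 1) (uz : u ≠ z i) : u = φ M4.e1 ∨ u = φ (M4.e1 * M4.e2) := by
  rw [map_mul, hc.e1, hc.e2]
  rcases four (h.sq i x hx) (h.sq i _ (h.zV i)) (h.cm i i x hx _ (h.zV i)) x1 (h.z1 i) xz (h.card i) hx (h.zV i) hu
    with h3 | h3 | h3 | h3
  · exact absurd h3 u1
  · exact absurd h3 uz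
  · exact Or.inl h3
  · exact Or.inr h3

theorem cls_j [Finite G] {x : G} {φ : M4 →* G} (hc : Co F T V z i j c a x φ) (hx : x ∈ V i) (x1 : x ≠ 1)
    (xz : x ≠ z i) {u : G} (hu : u ∈ V j) (u1 : u ≠ 1) (uz : u ≠ z j) : u = φ M4.e3 ∨ u = φ (M4.e3 * M4.e4) := by
  rw [map_mul, hc.e3, hc.e4]
  have hy : c * x * c⁻¹ ∈ V j := by rw [← h.cV]; exact conj_mem_cj hx
  have hz := h.z_of h.cT h.cV
  have y1 : c * x * c⁻¹ ≠ 1 := fun e => x1 (conj_eq_one_iff.1 e)
  have yz : c * x * c⁻¹ ≠ z j := fun e => xz (by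
    rw [← hz] at e
    exact mul_left_cancel (mul_right_cancel e))
  rcases four (h.sq j _ hy) (h.sq j _ (h.zV j)) (h.cm j j _ hy _ (h.zV j)) y1 (h.z1 j) yz (h.card j) hy (h.zV j) hu
    with h3 | h3 | h3 | h3
  · exact absurd h3 u1
  · exact absurd h3 uz
  · exact Or.inl h3
  · exact Or.inr h3

theorem actO [Finite G] {x : G} {φ : M4 →* G} (hc : Co F T V z i j c a x φ) (hx : x ∈ V i) (x1 : x ≠ 1)
    (xz : x ≠ z i) {o : G} (ho : o ∈ o2 F) : ∃ k, ∀ m, o * φ m * o⁻¹ = φ (act k m) := by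
  have hoT := h.O_le ho
  have hy : c * x * c⁻¹ ∈ V j := by rw [← h.cV]; exact conj_mem_cj hx
  have hz := h.z_of h.cT h.cV
  have y1 : c * x * c⁻¹ ≠ 1 := fun e => x1 (conj_eq_one_iff.1 e)
  have yz : c * x * c⁻¹ ≠ z j := fun e => xz (by
    rw [← hz] at e
    exact mul_left_cancel (mul_right_cancel e))
  have key : ∀ p q, o * φ M4.e1 * o⁻¹ = φ p → o * φ M4.e3 * o⁻¹ = φ q →
      (M4.e1 * M4.e3) * (p * q) ≠ M4.e2 ∧ (M4.e1 * M4.e3) * (p * q) ≠ M4.e4 := by
    intro p q hp hq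
    have h1 : φ ((M4.e1 * M4.e3) * (p * q)) ∈ (⨆ k, V k) ⊓ cj a (⨆ k, V k) := by
      rw [map_mul, map_mul, map_mul, ← hp, ← hq, hc.e1, hc.e3, ← cj_hom]
      exact mul_mem (h.star_mem hx) (h.I_nor ho (h.star_mem hx))
    constructor
    · intro e
      rw [e, hc.e2] at h1
      exact h.z_notMem i h1
    · intro e
      rw [e, hc.e4] at h1
      exact h.z_notMem j h1
  obtain ⟨m, hm, hzm⟩ := h.perm o hoT i
  obtain ⟨m', hm', hzm'⟩ := h.perm o hoT j
  have hox : ∀ {u : G}, u ≠ 1 → o * u * o⁻¹ ≠ 1 := fun hu e => hu (conj_eq_one_iff.1 e)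
  have hoz : ∀ {u v : G}, u ≠ v → o * u * o⁻¹ ≠ o * v * o⁻¹ := fun hu e => hu (mul_left_cancel (mul_right_cancel e))
  rcases h.only m with e | e
  · rw [e] at hm hzm
    have e' : m' = j := by
      rcases h.only m' with e' | e'
      · rw [e'] at hm'
        exact absurd (h.cj_inj hm hm') h.ij
      · exact e'
    rw [e'] at hm' hzm'
    have hu : o * x * o⁻¹ ∈ V i := by rw [← hm]; exact conj_mem_cj hx
    have hv : o * (c * x * c⁻¹) * o⁻¹ ∈ V j := by rw [← hm']; exact conj_mem_cj hy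
    have hu' := h.cls_i hc hx x1 xz hu (hox x1) (by rw [← hzm]; exact hoz xz)
    have hv' := h.cls_j hc hx x1 xz hv (hox y1) (by rw [← hzm']; exact hoz yz)
    rw [← hc.e1] at hu'
    rw [← hc.e3] at hv'
    rw [← hc.e2] at hzm
    rw [← hc.e4] at hzm'
    rcases hu' with hu' | hu' <;> rcases hv' with hv' | hv'
    · exact ⟨(false, false), conj_of (ψ := actH (false, false)) hu' hzm hv' hzm'⟩
    · exact absurd (by decide) (key _ _ hu' hv').2
    · exact absurd (by decide) (key _ _ hu' hv').1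
    · exact ⟨(false, true), conj_of (ψ := actH (false, true)) hu' hzm hv' hzm'⟩
  · rw [e] at hm hzm
    have e' : m' = i := by
      rcases h.only m' with e' | e'
      · exact e'
      · rw [e'] at hm'
        exact absurd (h.cj_inj hm hm') h.ij
    rw [e'] at hm' hzm'
    have hu : o * x * o⁻¹ ∈ V j := by rw [← hm]; exact conj_mem_cj hx
    have hv : o * (c * x * c⁻¹) * o⁻¹ ∈ V i := by rw [← hm']; exact conj_mem_cj hy
    have hu' := h.cls_j hc hx x1 xz hu (hox x1) (by rw [← hzm]; exact hoz xz)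
    have hv' := h.cls_i hc hx x1 xz hv (hox y1) (by rw [← hzm']; exact hoz yz)
    rw [← hc.e1] at hu'
    rw [← hc.e3] at hv'
    rw [← hc.e2, ← hc.e4] at hzm
    rw [← hc.e4, ← hc.e2] at hzm'
    rcases hu' with hu' | hu' <;> rcases hv' with hv' | hv'
    · exact ⟨(true, false), conj_of (ψ := actH (true, false)) hu' hzm hv' hzm'⟩
    · exact absurd (by decide) (key _ _ hu' hv').1
    · exact absurd (by decide) (key _ _ hu' hv').2
    · exact ⟨(true, true), conj_of (ψ := actH (true, true)) hu' hzm hv' hzm'⟩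

/-- The star lemma. -/
theorem out [Finite G] : ∃ D E, StarO F V z i j D E := by
  obtain ⟨t, ht, x, hx, x1, xz, htV, htz, htx, hto⟩ := h.exists_t i
  obtain ⟨φ, hc⟩ := h.exists_co hx x1 xz
  have hO := fun o ho => h.actO hc hx x1 xz (o := o) ho
  have hy : c * x * c⁻¹ ∈ V j := by rw [← h.cV]; exact conj_mem_cj hx
  have hz := h.z_of h.cT h.cV
  have hloc := loc_of hc.inj hc.range hO
  rw [map_mul, hc.e2, hc.e4] at hloc
  -- the action of `c`
  have hcc : ∀ m, c * φ m * c⁻¹ = φ (act (true, false) m) := by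
    refine conj_of (ψ := actH (true, false)) ?_ ?_ ?_ ?_
    · change c * φ M4.e1 * c⁻¹ = φ M4.e3
      rw [hc.e1, hc.e3]
    · change c * φ M4.e2 * c⁻¹ = φ M4.e4
      rw [hc.e2, hc.e4, hz]
    · change c * φ M4.e3 * c⁻¹ = φ M4.e1
      rw [hc.e1, hc.e3]
      exact h.cc x (le_iSup V i hx)
    · change c * φ M4.e4 * c⁻¹ = φ M4.e2
      rw [hc.e2, hc.e4, ← hz]
      exact h.cc _ (le_iSup V i (h.zV i))
  -- the action of `t`
  have htt : ∀ m, t * φ m * t⁻¹ = φ (tauH m) := by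
    refine conj_of (ψ := tauH) ?_ ?_ ?_ ?_
    · change t * φ M4.e1 * t⁻¹ = φ (M4.e1 * M4.e2)
      rw [map_mul, hc.e1, hc.e2, htx]
    · change t * φ M4.e2 * t⁻¹ = φ M4.e2
      rw [hc.e2, htz]
    · change t * φ M4.e3 * t⁻¹ = φ M4.e3
      rw [hc.e3]
      exact mul_inv_eq_iff_eq_mul.2 (hto j h.ij.symm _ hy)
    · change t * φ M4.e4 * t⁻¹ = φ M4.e4
      rw [hc.e4]
      exact mul_inv_eq_iff_eq_mul.2 (hto j h.ij.symm _ (h.zV j))
  have hpp : ∀ p, φ (p, p) ∈ (⨆ k, V k) ⊓ cj a (⨆ k, V k) := by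
    intro p
    have h1 := h.star_mem (hc.hi p)
    have e : φ (p, 1) * (c * φ (p, 1) * c⁻¹) = φ (p, p) := by
      rw [hcc, ← map_mul]
      congr 1
      change ((p, 1) * (1, p) : M4) = (p, p)
      simp
    rwa [e] at h1
  have hEt : (fixS (true, false)).map φ = (⨆ k, V k) ⊓ cj a (⨆ k, V k) := by
    apply le_antisymm
    · rintro _ ⟨⟨p, q⟩, hm, rfl⟩
      rw [d_fix p q (mem_fixS.1 hm)]
      exact hpp p
    · intro u hu
      have hu' := hu.1
      rw [SetLike.mem_coe, ← hc.range] at hu'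
      obtain ⟨⟨p, q⟩, rfl⟩ := hu'
      have h1 := mul_mem hu (hpp p)
      rw [← map_mul] at h1
      have e : ((p, q) * (p, p) : M4) = (1, q * p) := by
        rw [Prod.mk_mul_mk]
        congr 1
        have : ∀ p : Z2 × Z2, p * p = 1 := by decide
        exact this p
      rw [e] at h1
      have h2 : φ (1, q * p) = 1 := by
        by_contra hne
        exact h.ti j _ (hc.hj _) hne h1.2
      rw [← map_one φ] at h2
      have h3 : q * p = 1 := congrArg Prod.snd (hc.inj h2)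
      rw [d_fix2 p q h3]
      exact ⟨(p, p), mem_fixS.2 (d_fix' p), rfl⟩
  have hEf : (fixS (true, true)).map φ = (⨆ k, V k) ⊓ cj (t * a) (⨆ k, V k) := by
    have h1 : (fixS (true, true)).map φ = cj t ((fixS (true, false)).map φ) := by
      rw [← map_tau, Subgroup.map_map, cj, Subgroup.map_map]
      congr 1
      ext m
      exact (htt m).symm
    rw [h1, hEt, cj_inf, h.cj_T ht, cj_cj]
  refine ⟨DD.map φ, fun b => if b then (fixS (true, false)).map φ else (fixS (true, true)).map φ,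
    h.ij, h.only, hloc, ?_, ?_, ?_, ?_⟩
  · rintro (_ | _)
    · rw [if_neg (by decide), PLocal.ThompsonJ.card_map_injective _ hc.inj]
      exact card_fixS _ (by decide)
    · rw [if_pos rfl, PLocal.ThompsonJ.card_map_injective _ hc.inj]
      exact card_fixS _ (by decide)
  · rw [if_pos rfl, if_neg (by decide)]
    exact fun e => fixS_ne (Subgroup.map_injective hc.inj e)
  · rintro (_ | _)
    · rw [if_neg (by decide)]
      exact ⟨t * a, mul_mem (h.syl.1 ht) h.aF, hEf⟩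
    · rw [if_pos rfl]
      exact ⟨a, h.aF, hEt⟩
  · rintro o ho k l ⟨u, hu, hm⟩
    obtain ⟨κ, hκ⟩ := hO o ho
    have hne : κ ≠ (false, false) := by
      rintro rfl
      have hu' := le_iSup V k hu
      rw [← hc.range] at hu'
      obtain ⟨m, rfl⟩ := hu'
      apply hm
      rw [← mul_inv_eq_iff_eq_mul, hκ, act_ff]
    rcases h.only l with e | e
    · rw [e]
      refine ⟨φ M4.e1, hc.hi _, fun h1 => d_mv1 κ hne (hc.inj ?_)⟩
      rw [← hκ, h1, mul_inv_cancel_right]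
    · rw [e]
      refine ⟨φ M4.e3, hc.hj _, fun h1 => d_mv3 κ hne (hc.inj ?_)⟩
      rw [← hκ, h1, mul_inv_cancel_right]

end StarH

end Cfsg.Agent.Omega.OM.Swap

end

-- merged: Cfsg.Agent.Mrg.Omega.OM.Swap.End
section

section


/-!
# THEOREM SW: the end

`Sit.false`, `Fam.SitF.false`, `sitFalse : SitFalse`.
-/

set_option autoImplicit false

namespace Cfsg.Agent.Omega.OM.Swap

open Subgroup Cfsg Cfsg.Agent.ZN Cfsg.Agent.ZN.ChoiceBase Cfsg.Agent.ZN.ChoiceSit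

universe u

variable {G : Type u} [Group G] {ι : Type*} {F T F₀ : Subgroup G} {𝓐 : Set (Subgroup G)} {V : ι → Subgroup G}
  {z : ι → G}

/-- The star lemma for `Sit`. -/
theorem Sit.starO [Finite G] (h : Sit F T F₀ V z) {i j : ι} (hij : i ≠ j) {c a : G} (hc : c ∈ T)
    (hc2 : ∀ u ∈ ⨆ k, V k, c * (c * u * c⁻¹) * c⁻¹ = u) (hcV : cj c (V i) = V j) (ha : a ∈ F) (ha0 : a ∉ F₀)
    (hE : ∀ x ∈ V i, a * (x * (c * x * c⁻¹)) = x * (c * x * c⁻¹) * a) : ∃ D E, StarO F V z i j D E :=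
  StarH.out (T := T) (c := c) (a := a)
    { syl := h.syl
      card := h.card
      zV := h.zV
      z1 := h.z1
      sq := h.sq
      cm := fun i j x hx y hy => by
        have := h.comm 1 (one_mem F) i j x hx y hy
        simpa using this
      ind := h.ind
      perm := h.perm
      tr := h.tr
      mov := fun i => by
        obtain ⟨A, hA, hm⟩ := h.mov i
        obtain ⟨t, ht, h1, h2⟩ := h.hat A hA i hm
        exact ⟨t, hA.2.1 ht, h1, h2⟩
      ti := fun i x hx hx1 hxa => ha0 (h.ti i x hx hx1 a ha hxa)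
      ij := hij
      cT := hc
      cc := hc2
      cV := hcV
      aF := ha
      star := hE }

theorem Sit.false [Finite G] (h : Sit F T F₀ V z) : False := by
  obtain ⟨i, j, hij, c, hc, hc2, hcV, a, ha, ha0, hE⟩ := h.exists_star
  obtain ⟨D, E, hs⟩ := h.starO hij hc (fun u _ => by
    have h1 : c * (c * u * c⁻¹) * c⁻¹ = (c * c) * u * (c * c)⁻¹ := by group
    rw [h1, hc2]; group) hcV ha ha0 hE
  exact h.false_of hs

/-- The star lemma for `SitF`. -/
theorem Fam.SitF.starO [Finite G] (h : Fam.SitF F T F₀ 𝓐 V z) {i j : ι} (hij : i ≠ j) {c a : G} (hc : c ∈ T)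
    (hc2 : ∀ u ∈ ⨆ k, V k, c * (c * u * c⁻¹) * c⁻¹ = u) (hcV : cj c (V i) = V j) (ha : a ∈ F) (ha0 : a ∉ F₀)
    (hE : ∀ x ∈ V i, a * (x * (c * x * c⁻¹)) = x * (c * x * c⁻¹) * a) : ∃ D E, StarO F V z i j D E :=
  StarH.out (T := T) (c := c) (a := a)
    { syl := h.syl
      card := h.card
      zV := h.zV
      z1 := h.z1
      sq := h.sq
      cm := fun i j x hx y hy => by
        have := h.comm 1 (one_mem F) i j x hx y hy
        simpa using this
      ind := h.ind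
      perm := h.perm
      tr := h.tr
      mov := h.mov
      ti := fun i x hx hx1 hxa => ha0 (h.ti i x hx hx1 a ha hxa)
      ij := hij
      cT := hc
      cc := hc2
      cV := hcV
      aF := ha
      star := hE }

theorem Fam.SitF.false [Finite G] (h : Fam.SitF F T F₀ 𝓐 V z) : False := by
  obtain ⟨i, j, hij, c, hc, hc2, hcV, a, ha, ha0, hE⟩ := h.exists_star
  obtain ⟨D, E, hs⟩ := h.starO hij hc hc2 hcV ha ha0 hE
  exact h.false_of hs

/-- **THEOREM SW, STEPS 1 and 2.** -/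
theorem sitFalse : SitFalse.{u} := fun _ _ _ _ _ _ _ _ _ h => h.false

end Cfsg.Agent.Omega.OM.Swap

end

section


/-!
# THEOREM SW (#18741), stage `-1`, over an abstract line `V` (box R, bb #24115)

`M ≥ K0, N_G(B)`, frame `LineV S Q V L W Z C A 2`.

* `exists_sit` : STEP 0: if some subgroup `H ≥ B` of characteristic 2 is not contained in `M`, then `Swap.Sit`;
* **`le_of_char2`** : every subgroup `H ≥ B` of characteristic 2 is contained in `M`;
* **`nonLoc`** : if `K0` normalises a nontrivial 2-group, then `O₂(K0) ≠ 1` and `M = N_G(O₂(K0))` contains `C_G(Z_J)`, all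
  FF-blocks over `B`, `N_G(B)`, `S` and every subgroup `H ≥ B` of characteristic 2.
-/

set_option autoImplicit false
set_option linter.unusedSectionVars false

namespace Cfsg.Agent.Omega.OM.SwapV.NegPlug

open Subgroup Cfsg Cfsg.Agent.ZN.ChoiceBase Cfsg.Agent.ZN.ChoiceSit
open Cfsg.Agent.ZN (jj zj bau zc zl o2)
open Cfsg.Agent.Omega.OM.Dich (K0 Fam)
open Cfsg.Agent.Omega.OM.BlkGen (FBlk)
open Cfsg.Agent.Omega.OM.SwapV.NegPair
open Cfsg.Agent.Omega.OM.Swap (MF Phi Sit SitFalse mm_two AA_two char2_cent mem_of_cj_bau_le zj_le_bau cj_mul_eq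
  cj_inv_eq)

universe u

variable {G : Type u} [Group G] [Finite G]

section line

variable {ι : Type} [Finite ι] {S : Sylow 2 G} {Q V : Subgroup G} {L W Z C A : ι → Subgroup G}

/-- A pair with `|Phi(T)|` maximal; `C_G(Z₀ z_j) ≤ M` for `j ∉ Phi(T)`. -/
theorem exists_max (h : LineV S Q V L W Z C A 2) (hFF : FFThm.Stmt.{u}) (hA : FFBr.AStmt.{u}) {M H : Subgroup G}
    (hK : K0 (S : Subgroup G) (FBlk (S : Subgroup G)) ≤ M) (hN : normalizer (bau (S : Subgroup G) : Set G) ≤ M)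
    (hB : bau (S : Subgroup G) ≤ H) (hc : H ⊓ centralizer (o2 H : Set G) ≤ o2 H) (hM : ¬ H ≤ M) :
    ∃ T F : Subgroup G, Pair S V M T F ∧ ∀ j, j ∉ Phi Z T →
      centralizer (((⨆ i ∈ Phi Z T, Z i) ⊔ Z j : Subgroup G) : Set G) ≤ M := by
  classical
  have hS2 : IsPGroup 2 (zj (S : Subgroup G)) := S.isPGroup'.to_le ((zj_le_bau _).trans (bau_le _))
  -- choose
  let s : Set ℕ := {n | ∃ T F : Subgroup G, Pair S V M T F ∧ (Phi Z T).ncard = n}
  have hs1 : s.Nonempty := by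
    obtain ⟨T, F, hp, -⟩ := exists_pair h hFF hA hK hN hB hc hM
    exact ⟨_, T, F, hp, rfl⟩
  have hs2 : s.Finite := by
    refine (Set.finite_Iic (Nat.card ι)).subset ?_
    rintro n ⟨T, F, -, rfl⟩
    rw [Set.mem_Iic, ← Set.ncard_univ]
    exact Set.ncard_le_ncard (Set.subset_univ _)
  obtain ⟨n, hn⟩ := hs2.exists_maximal hs1
  obtain ⟨T, F, hp, hcard⟩ := hn.prop
  refine ⟨T, F, hp, fun j hj => ?_⟩
  by_contra hcon
  set X : Subgroup G := (⨆ i ∈ Phi Z T, Z i) ⊔ Z j with hX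
  have hXJ : X ≤ zj (S : Subgroup G) :=
    sup_le (iSup_le fun i => iSup_le fun _ => h.fr.Z_le i) (h.fr.Z_le j)
  have hX1 : X ≠ ⊥ := by
    intro e
    obtain ⟨z, hz, hz1⟩ := Z_ne h j
    have h1 : z ∈ X := mem_sup_right hz
    rw [e, mem_bot] at h1
    exact hz1 h1
  have hBX : bau (S : Subgroup G) ≤ centralizer (X : Set G) :=
    (Dich.bau_le_cent _).trans (centralizer_le (by exact_mod_cast hXJ))
  obtain ⟨T', F', hp', hle⟩ := exists_pair h hFF hA hK hN hBX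
    (char2_cent h.ch (hS2.to_le hXJ) hX1) hcon
  have hfix : ∀ i, Z i ≤ X → i ∈ Phi Z T' := by
    intro i hi t ht
    have h1 := hle (hp'.syl.1 ht)
    refine cj_eq_of_mem_normalizer (centralizer_le_normalizer _ ?_)
    exact centralizer_le (by exact_mod_cast hi) h1
  have hsub : insert j (Phi Z T) ⊆ Phi Z T' := by
    rintro i (rfl | hi)
    · exact hfix _ le_sup_right
    · exact hfix _ (le_sup_of_le_left (le_iSup₂ (f := fun i (_ : i ∈ Phi Z T) => Z i) i hi))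
  have h2 : n + 1 ≤ (Phi Z T').ncard := by
    rw [← hcard, ← Set.ncard_insert_of_notMem hj (Set.toFinite _)]
    exact Set.ncard_le_ncard hsub (Set.toFinite _)
  have h3 : (Phi Z T').ncard ≤ n := hn.le_of_ge ⟨T', F', hp', rfl⟩ (by show n ≤ (Phi Z T').ncard; omega)
  omega

/-- `V` commutes with its conjugates under `F` if `V ≤ O₂(F)`, `B ≤ T`. -/
theorem comm_of_pair (h : LineV S Q V L W Z C A 2) {M T F : Subgroup G} (hp : Pair S V M T F) {f : G} (hf : f ∈ F)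
    {x y : G} (hx : x ∈ V) (hy : y ∈ V) :
    x * (f * y * f⁻¹) = f * y * f⁻¹ * x := by
  have hV := hp.VO
  have hO : o2 F ≤ T := o2_le_syl hp.syl
  have hcO : cj f (o2 F) = o2 F := cj_eq_of_mem_normalizer (le_normalizer_o2 F hf)
  refine h.nff T hp.syl.2.1 hp.BT f ?_ ?_ x hx _ ⟨y, hy, rfl⟩
  · have := cj_mono f hV
    rw [hcO] at this
    exact this.trans hO
  · have := cj_mono f hO
    rw [hcO] at this
    exact hV.trans this

/-- **STEP 0.** -/
theorem exists_sit (h : LineV S Q V L W Z C A 2) (hmf : MF (S : Subgroup G) L W Z) (hFF : FFThm.Stmt.{u})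
    (hA : FFBr.AStmt.{u}) {M H : Subgroup G}
    (hK : K0 (S : Subgroup G) (FBlk (S : Subgroup G)) ≤ M) (hN : normalizer (bau (S : Subgroup G) : Set G) ≤ M)
    (hB : bau (S : Subgroup G) ≤ H) (hc : H ⊓ centralizer (o2 H : Set G) ≤ o2 H) (hM : ¬ H ≤ M) :
    ∃ (T F F₀ : Subgroup G) (κ : Type) (U : κ → Subgroup G) (z : κ → G), Sit F T F₀ U z := by
  classical
  obtain ⟨T, F, hp, hcen⟩ := exists_max h hFF hA hK hN hB hc hM
  have hD : centralizer (zj (S : Subgroup G) : Set G) ≤ M := Dich.cent_le_K0.trans hK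
  have hSM : (S : Subgroup G) ≤ M := (Line.S_le S).trans hN
  have hLM : ∀ i, L i ≤ M := fun i => (Dich.blk_le_K0 (h.fblk i)).trans hK
  have hTN : T ≤ normalizer (bau (S : Subgroup G) : Set G) := Dich.two_le S hp.syl.2.1 hp.BT
  have hTM : T ≤ M := hTN.trans hN
  have hO : o2 F ≤ T := o2_le_syl hp.syl
  have hON : o2 F ≤ normalizer (bau (S : Subgroup G) : Set G) := hO.trans hTN
  have hTF : T ≤ F := hp.syl.1
  choose z hz hz1 using Z_ne h
  -- an index moved by `O₂(F)`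
  obtain ⟨i₀, o₀, ho₀, hmv⟩ : ∃ i, ∃ o ∈ o2 F, cj o (Z i) ≠ Z i := by
    by_contra hcon
    push Not at hcon
    apply hp.nM
    have h1 : zj (S : Subgroup G) ≤ centralizer (F : Set G) := by
      intro x hx
      refine hp.fix ⟨hx, mem_centralizer_iff.2 fun o ho => ?_⟩
      refine comm_of_supp h (hON ho) hx fun i j e => ?_
      rw [hcon i o ho] at e
      rw [Z_inj h e]
    exact (le_centralizer_iff.1 h1).trans hD
  -- its orbit
  set r : Set ι := {j | ∃ o ∈ o2 F, cj o (Z i₀) = Z j} with hr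
  have hrO : ∀ o ∈ o2 F, ∀ i j, cj o (Z i) = Z j → (i ∈ r ↔ j ∈ r) := by
    intro o ho i j e
    constructor
    · rintro ⟨o', ho', e'⟩
      exact ⟨o * o', mul_mem ho ho', cj_mul_eq e' e⟩
    · rintro ⟨o', ho', e'⟩
      exact ⟨o⁻¹ * o', mul_mem (inv_mem ho) ho', cj_mul_eq e' (cj_inv_eq e)⟩
  have hi₀ : i₀ ∈ r := ⟨1, one_mem _, cj_one _⟩
  obtain ⟨j₀, hj₀, -⟩ := perm h (hON ho₀) i₀
  have hj₀r : j₀ ∈ r := ⟨o₀, ho₀, hj₀⟩
  have hne₀ : i₀ ≠ j₀ := by
    rintro rfl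
    exact hmv hj₀
  -- elements of `Z_J` with support `r` are centralised by `F`
  have hsuppF : ∀ x ∈ zj (S : Subgroup G), (∀ i, x ∈ C i ↔ i ∉ r) → ∀ f ∈ F, f * x = x * f := by
    intro x hx hxs f hf
    refine mem_centralizer_iff.1 (hp.fix ⟨hx, mem_centralizer_iff.2 fun o ho => ?_⟩) f hf
    refine comm_of_supp h (hON ho) hx fun i j e => ?_
    rw [hxs i, hxs j, hrO o ho i j e]
  obtain ⟨xr, hxr, hxrs⟩ := exists_supp h r
  -- `T` stabilises `r`
  have hrT : ∀ t ∈ T, ∀ i j, cj t (Z i) = Z j → i ∈ r → j ∈ r := by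
    intro t ht i j e hi
    by_contra hj
    have h1 := (supp_cj h (hTN ht) e hxr).1
    have h2 := hsuppF xr hxr hxrs t (hTF ht)
    have h3 : t * xr * t⁻¹ = xr := by rw [h2]; group
    rw [h3] at h1
    exact (hxrs i).1 (h1 ((hxrs j).2 hj)) hi
  -- `r` and `Phi(T)` are disjoint
  have hrPhi : ∀ j ∈ r, j ∉ Phi Z T := by
    rintro j ⟨o, ho, e⟩ hj
    apply hmv
    have h1 := hj (o * o₀ * o⁻¹) (hO (mul_mem (mul_mem ho ho₀) (inv_mem ho)))
    rw [← e, cj_cj] at h1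
    have h2 : cj o⁻¹ (cj (o * o₀ * o⁻¹ * o) (Z i₀)) = cj o⁻¹ (cj o (Z i₀)) := by rw [h1]
    rw [cj_cj, cj_inv_cj] at h2
    have e2 : o⁻¹ * (o * o₀ * o⁻¹ * o) = o₀ := by group
    rwa [e2] at h2
  -- the group `Z₀`
  set Z₀ : Subgroup G := ⨆ i ∈ Phi Z T, Z i with hZ₀
  have hZ₀J : Z₀ ≤ zj (S : Subgroup G) := iSup_le fun i => iSup_le fun _ => h.fr.Z_le i
  have hFZ₀ : F ≤ centralizer (Z₀ : Set G) := by
    rw [le_centralizer_iff]
    refine iSup_le fun i => iSup_le fun hi x hx => ?_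
    refine hp.fix ⟨h.fr.Z_le i hx, mem_centralizer_iff.2 fun o ho => ?_⟩
    exact cent_of_cj h (hi o (hO ho)) hx
  have hBZ₀ : bau (S : Subgroup G) ≤ centralizer (Z₀ : Set G) :=
    (Dich.bau_le_cent _).trans (centralizer_le (by exact_mod_cast hZ₀J))
  have hLZ₀ : ∀ j ∈ r, L j ≤ centralizer (Z₀ : Set G) := by
    intro j hj
    rw [le_centralizer_iff]
    refine iSup_le fun i => iSup_le fun hi x hx => ?_
    rw [mem_centralizer_iff]
    intro l hl
    have hij : j ≠ i := by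
      rintro rfl
      exact hrPhi _ hj hi
    exact h.fr.LC j l hl x (h.fr.Z_le i hx) (Z_C h hij hx)
  -- (TI)
  have hti : ∀ i ∈ r, ∀ x ∈ W i, x ≠ 1 → ∀ f ∈ F, x ∈ cj f (⨆ j ∈ r, W j) → f ∈ M := by
    intro i hi x hx hx1 f hf hxf
    obtain ⟨l, hl, hxl⟩ := UniPlus.cover_two (UniPlus.nb h.fr i) hx
    rw [mem_cj] at hxl hxf
    -- `C_G(Z₀ x) ≤ M`
    have hcx : ∀ u, u ∈ centralizer (Z₀ : Set G) → u * x = x * u → u ∈ M := by
      intro u hu hux
      have h1 : l⁻¹ * u * l ∈ M := by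
        refine hcen i (hrPhi i hi) ?_
        rw [mem_centralizer_iff]
        intro y hy
        have h2 : ((⨆ i ∈ Phi Z T, Z i) ⊔ Z i : Subgroup G) ≤ centralizer ({l⁻¹ * u * l} : Set G) := by
          refine sup_le ?_ fun y hy => ?_
          · have h3 : l⁻¹ * u * l ∈ centralizer (Z₀ : Set G) :=
              mul_mem (mul_mem (inv_mem (hLZ₀ i hi hl)) hu) (hLZ₀ i hi hl)
            intro y hy
            rw [mem_centralizer_singleton_iff]
            exact mem_centralizer_iff.1 h3 y hy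
          · rw [mem_centralizer_singleton_iff]
            by_cases hy1 : y = 1
            · rw [hy1]; simp
            have h3 : l⁻¹ * x * l ≠ 1 := fun h4 => hx1 (by
              have h5 := congrArg (fun t => l * t * l⁻¹) h4
              simpa [mul_assoc] using h5)
            have h4 := Z_eq h hy hxl hy1 h3
            rw [h4]
            have h5 := congrArg (fun t => l⁻¹ * t * l) hux
            simpa [mul_assoc] using h5.symm
        exact mem_centralizer_singleton_iff.1 (h2 hy)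
      have h2 := mul_mem (mul_mem (hLM i hl) h1) (inv_mem (hLM i hl))
      have e : l * (l⁻¹ * u * l) * l⁻¹ = u := by group
      rwa [e] at h2
    obtain ⟨m, hm, hmx⟩ := hmf.conj r _ hxf
    have hmM : m ∈ M := (iSup₂_le fun i (_ : i ∈ r) => hLM i : (⨆ i ∈ r, L i) ≤ M) hm
    have hmZ : m ∈ centralizer (Z₀ : Set G) :=
      (iSup₂_le fun i (hi : i ∈ r) => hLZ₀ i hi : (⨆ i ∈ r, L i) ≤ centralizer (Z₀ : Set G)) hm
    have hg : f * m⁻¹ ∈ M := by
      refine mem_of_cj_bau_le S hSM hN ?_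
      rintro _ ⟨b, hb, rfl⟩
      refine hcx _ ?_ ?_
      · have hgZ : f * m⁻¹ ∈ centralizer (Z₀ : Set G) := mul_mem (hFZ₀ hf) (inv_mem hmZ)
        exact mul_mem (mul_mem hgZ (hBZ₀ hb)) (inv_mem hgZ)
      · have h1 := (mem_bau.1 hb).2 _ hmx
        change (f * m⁻¹) * b * (f * m⁻¹)⁻¹ * x = x * ((f * m⁻¹) * b * (f * m⁻¹)⁻¹)
        have h2 := congrArg (fun t => (f * m⁻¹) * t * (f * m⁻¹)⁻¹) h1
        have e1 : (f * m⁻¹) * (m * (f⁻¹ * x * f) * m⁻¹ * b) * (f * m⁻¹)⁻¹ =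
          x * ((f * m⁻¹) * b * (f * m⁻¹)⁻¹) := by group
        have e2 : (f * m⁻¹) * (b * (m * (f⁻¹ * x * f) * m⁻¹)) * (f * m⁻¹)⁻¹ =
          (f * m⁻¹) * b * (f * m⁻¹)⁻¹ * x := by group
        have h3 : (f * m⁻¹) * (m * (f⁻¹ * x * f) * m⁻¹ * b) * (f * m⁻¹)⁻¹ =
            (f * m⁻¹) * (b * (m * (f⁻¹ * x * f) * m⁻¹)) * (f * m⁻¹)⁻¹ := by
          exact h2
        rw [e1, e2] at h3
        exact h3.symm
    have h3 := mul_mem hg hmM
    have e : f * m⁻¹ * m = f := by group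
    rwa [e] at h3
  have hsup : (⨆ j : r, W j) = ⨆ j ∈ r, W j := iSup_subtype' (f := fun j (_ : j ∈ r) => W j) |>.symm
  have hWV : ∀ i, W i ≤ V := h.fr.WV
  refine ⟨T, F, F ⊓ M, r, fun i => W i, fun i => z i, ?_⟩
  refine
    { syl := hp.syl
      TF₀ := le_inf hTF hTM
      F₀F := lt_of_le_of_ne inf_le_left fun e => hp.nM (inf_eq_left.1 e)
      max := fun K hTK hKF => le_inf hKF.le (hp.min K hTK hKF)
      nJ := ?_
      fin := inferInstance
      two := ⟨⟨i₀, hi₀⟩, ⟨j₀, hj₀r⟩, fun e => hne₀ (congrArg Subtype.val e)⟩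
      card := fun i => by rw [(h.fr.blk i).card, h.fr.cardZ]
      zV := fun i => Z_W h _ (hz i)
      z1 := fun i => hz1 i
      VO := fun i => (hWV i).trans hp.VO
      sq := fun i x hx => by
        rw [← pow_two]
        exact SQ1.Bau.elem_sq h.fr.el x (hWV i hx)
      comm := fun f hf i j x hx y hy => comm_of_pair h hp hf (hWV i hx) (hWV j hy)
      ind := ?_
      perm := ?_
      tr := ?_
      act := fun X hX a ha i x hx => hmf.act X (AA_two S hp.syl.2.1 hp.BT hX) a ha i x hx (z i) (hz i) (hz1 i)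
      hat := ?_
      mov := ?_
      zc := ?_
      ti := ?_ }
  · by_contra hcon
    push Not at hcon
    apply hp.nJ
    rw [← LemmaK.Main.jj_eq S hp.syl.2.1 hp.BT, Cfsg.Agent.ZN.ChoiceBase.jj_eq]
    exact sSup_le hcon
  · rintro ⟨i, hi⟩ x hx hx'
    have h1 : (⨆ j : r, ⨆ _ : j ≠ ⟨i, hi⟩, W j) ≤ C i := by
      refine iSup_le fun j => iSup_le fun hj => ?_
      exact h.fr.WjC i j fun e => hj (Subtype.ext e.symm)
    have h2 : x ∈ W i ⊓ C i := mem_inf.2 ⟨hx, h1 hx'⟩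
    rwa [h.fr.dir i, mem_bot] at h2
  · rintro t ht ⟨i, hi⟩
    obtain ⟨j, h1, h2, -⟩ := perm h (hTN ht) i
    exact ⟨⟨j, hrT t ht i j h1 hi⟩, h2, conj_gen h h1 (hz i) (hz1 i) (hz j) (hz1 j)⟩
  · rintro ⟨i, o, ho, e⟩ ⟨j, o', ho', e'⟩
    refine ⟨o' * o⁻¹, mul_mem ho' (inv_mem ho), ?_⟩
    exact W_cj h (hON (mul_mem ho' (inv_mem ho))) (cj_mul_eq (cj_inv_eq e) e')
  · rintro X hX ⟨i, hi⟩ hmv'
    obtain ⟨a, ha, h1, h2⟩ := hmf.hat X (AA_two S hp.syl.2.1 hp.BT hX) i hmv'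
    exact ⟨a, ha, h1, fun j hj x hx => h2 j (fun e => hj (Subtype.ext e)) x hx⟩
  · rintro ⟨i, hi⟩
    have h1 : A i ∈ AA T := by
      rw [mem_AA_iff]
      refine ⟨h.fr.Ael i, (h.fr.AB i).trans hp.BT, ?_⟩
      rw [mm_two S hp.syl.2.1 hp.BT, h.fr.Am i]
    have h2 := h.fr.Ane i
    push Not at h2
    obtain ⟨a, ha, v, hv, hne⟩ := h2
    exact ⟨A i, h1, a, ha, v, hv, hne⟩
  · rintro ⟨i, hi⟩ ⟨j, hj⟩ hij hall f hf
    have hij' : i ≠ j := fun e => hij (Subtype.ext e)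
    have hall' : ∀ k ∈ r, k = i ∨ k = j := by
      intro k hk
      rcases hall ⟨k, hk⟩ with e | e
      · exact Or.inl (congrArg Subtype.val e)
      · exact Or.inr (congrArg Subtype.val e)
    refine hsuppF (z i * z j) (mul_mem (h.fr.Z_le i (hz i)) (h.fr.Z_le j (hz j))) (fun k => ?_) f hf
    by_cases hki : k = i
    · subst hki
      rw [Subgroup.mul_mem_cancel_right _ (Z_C h hij' (hz j))]
      exact ⟨fun h1 => absurd h1 (not_mem_C h (hz k) (hz1 k)), fun h1 => absurd hi h1⟩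
    · by_cases hkj : k = j
      · subst hkj
        rw [Subgroup.mul_mem_cancel_left _ (Z_C h hki (hz i))]
        exact ⟨fun h1 => absurd h1 (not_mem_C h (hz k) (hz1 k)), fun h1 => absurd hj h1⟩
      · refine ⟨fun _ hk => ?_, fun _ => mul_mem (Z_C h hki (hz i)) (Z_C h hkj (hz j))⟩
        rcases hall' k hk with e | e
        · exact hki e
        · exact hkj e
  · rintro ⟨i, hi⟩ x hx hx1 f hf hxf
    rw [hsup] at hxf
    exact mem_inf.2 ⟨hf, hti i hi x hx hx1 f hf hxf⟩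

/-- **THEOREM SW**: every subgroup of characteristic 2 over `B` is contained in every `M ≥ K0, N_G(B)`. -/
theorem le_of_char2' (hs : SitFalse.{u}) (h : LineV S Q V L W Z C A 2) (hmf : MF (S : Subgroup G) L W Z)
    (hFF : FFThm.Stmt.{u}) (hA : FFBr.AStmt.{u}) {M H : Subgroup G}
    (hK : K0 (S : Subgroup G) (FBlk (S : Subgroup G)) ≤ M) (hN : normalizer (bau (S : Subgroup G) : Set G) ≤ M)
    (hB : bau (S : Subgroup G) ≤ H) (hc : H ⊓ centralizer (o2 H : Set G) ≤ o2 H) : H ≤ M := by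
  by_contra hM
  obtain ⟨T, F, F₀, κ, U, z, hS⟩ := exists_sit h hmf hFF hA hK hN hB hc hM
  exact hs G F T F₀ κ U z hS

/-- **THEOREM SW** -/
theorem le_of_char2 (h : LineV S Q V L W Z C A 2) (hmf : MF (S : Subgroup G) L W Z)
    (hFF : FFThm.Stmt.{u}) (hA : FFBr.AStmt.{u}) {M H : Subgroup G}
    (hK : K0 (S : Subgroup G) (FBlk (S : Subgroup G)) ≤ M) (hN : normalizer (bau (S : Subgroup G) : Set G) ≤ M)
    (hB : bau (S : Subgroup G) ≤ H) (hc : H ⊓ centralizer (o2 H : Set G) ≤ o2 H) : H ≤ M :=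
  le_of_char2' Swap.sitFalse h hmf hFF hA hK hN hB hc

/-- **(Om)**: if `K0` normalises a nontrivial 2-group, then `M = N_G(O₂(K0))` is local and contains everything of
characteristic 2 over `B`. -/
theorem nonLoc (h : LineV S Q V L W Z C A 2) (hmf : MF (S : Subgroup G) L W Z)
    (hFF : FFThm.Stmt.{u}) (hA : FFBr.AStmt.{u}) {R : Subgroup G} (hR : IsPGroup 2 R) (hR1 : R ≠ ⊥)
    (hRK : K0 (S : Subgroup G) (FBlk (S : Subgroup G)) ≤ normalizer (R : Set G)) :
    ∃ M : Subgroup G, M = normalizer (o2 (K0 (S : Subgroup G) (FBlk (S : Subgroup G))) : Set G) ∧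
      o2 (K0 (S : Subgroup G) (FBlk (S : Subgroup G))) ≠ ⊥ ∧
      o2 (K0 (S : Subgroup G) (FBlk (S : Subgroup G))) ≤ bau (S : Subgroup G) ∧
      K0 (S : Subgroup G) (FBlk (S : Subgroup G)) ≤ M ∧
      centralizer (zj (S : Subgroup G) : Set G) ≤ M ∧ (∀ L V, FBlk (S : Subgroup G) L V → L ≤ M) ∧
      normalizer (bau (S : Subgroup G) : Set G) ≤ M ∧ (S : Subgroup G) ≤ M ∧
      ∀ H : Subgroup G, bau (S : Subgroup G) ≤ H → H ⊓ centralizer (o2 H : Set G) ≤ o2 H → H ≤ M := by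
  obtain ⟨h1, h2, h3⟩ := h.fam.dich hR hR1 hRK
  have h4 : K0 (S : Subgroup G) (FBlk (S : Subgroup G)) ≤
      normalizer (o2 (K0 (S : Subgroup G) (FBlk (S : Subgroup G))) : Set G) := le_sup_left.trans h3
  have h5 : normalizer (bau (S : Subgroup G) : Set G) ≤
      normalizer (o2 (K0 (S : Subgroup G) (FBlk (S : Subgroup G))) : Set G) := le_sup_right.trans h3
  exact ⟨_, rfl, h1, h2, h4, Dich.cent_le_K0.trans h4, fun L V hL => (Dich.blk_le_K0 hL).trans h4, h5,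
    (Line.S_le S).trans h5, fun H hB hc => le_of_char2 h hmf hFF hA h4 h5 hB hc⟩

end line

end Cfsg.Agent.Omega.OM.SwapV.NegPlug

end

end
end
end
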